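import Cfsg.Agent.Mrg.Omega.OM.SwapV.NegMain
import Cfsg.Agent.Mrg.Omega.NOThreeL.RTree


/-!
# NO-3L, box R: `⟨C_G(Z_J), blocks⟩` is nonlocal, stage `-1` (#24050 (0'))

`B = bau S`, `Z_J = zj S`, the frame `LineV S Q V L W Z C A 2` over `B` (any module `V`, any `S`-orbits of blocks).

* `nl_K0` : in box R `K0` normalises no 2-group `≠ 1`;
* `K0_le` : with at least three blocks `K0 ≤ ⟨C_G(Z_J), L i⟩` (UNI+);
* `nl` : in box R, with at least three blocks, no 2-group `≠ 1` is normalised by `C_G(Z_J)` and all `L i`.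
-/

set_option autoImplicit false
set_option linter.unusedSectionVars false

namespace Cfsg.Agent.Omega.NOThreeL.RRed.BFr.NlNeg

open Subgroup Cfsg Cfsg.Agent.Omega.MinPar Cfsg.Agent.Omega.Frame Cfsg.Agent.ZN.ChoiceBase Cfsg.Agent.ZN.ChoiceSit
open Cfsg.Agent.ZN (jj zj bau zc zl o2)
open Cfsg.Agent.Omega.OM.Dich (K0)
open Cfsg.Agent.Omega.OM.BlkGen (FBlk)
open Cfsg.Agent.Omega.OM.SwapV.NegPair
open Cfsg.Agent.Omega.NOThreeL.RTree (RB)

universe u

variable {G : Type u} [Group G] [Finite G] {ι : Type} [Finite ι] {S : Sylow 2 G} {Q V : Subgroup G}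
  {L W Z C A : ι → Subgroup G}

/-- **`K0` normalises no 2-group `≠ 1`.** -/
theorem nl_K0 (B : RB S) (h : LineV S Q V L W Z C A 2) {R : Subgroup G} (hR : IsPGroup 2 R)
    (hK : K0 (S : Subgroup G) (FBlk (S : Subgroup G)) ≤ normalizer (R : Set G)) : R = ⊥ := by
  by_contra hR1
  obtain ⟨M, rfl, h1, -, -, -, -, -, -, hall⟩ :=
    Cfsg.Agent.Omega.OM.SwapV.NegMain.nonLoc h hR hR1 hK
  have hc := B.ctx.char2
  refine h1 (FrameNOFF.eq_bot_of_norm B.ctx S B.full (isPGroup_o2 _) (fun P hP => ?_) ?_)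
  · exact hall P ((bau_le _).trans hP.le) (hP.isLoc.char2 S hc)
  · have h2 := isLoc_centralizer_zc S (B.ctx.sylow_ne_bot S)
    exact hall _ ((bau_le _).trans h2.le) (h2.char2 S hc)

omit [Finite G] [Finite ι] in
theorem five {ZJ : Subgroup G} (h4 : Nat.card ZJ = 4) {a b c : G} (ha : a ∈ ZJ) (hb : b ∈ ZJ) (hc : c ∈ ZJ)
    (ha1 : a ≠ 1) (hb1 : b ≠ 1) (hc1 : c ≠ 1) (hab : a ≠ b) (hac : a ≠ c) (hbc : b ≠ c) (h : a * b ≠ c)
    (hab1 : a * b ≠ 1) : False := by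
  have hf : Finite ZJ := Nat.finite_of_card_ne_zero (by rw [h4]; norm_num)
  have h1 : ({1, a, b, c, a * b} : Set G) ⊆ (ZJ : Set G) := by
    rintro x (rfl | rfl | rfl | rfl | rfl)
    exacts [one_mem _, ha, hb, hc, mul_mem ha hb]
  have h2 := Set.ncard_le_ncard h1 (Set.toFinite _)
  have e : (ZJ : Set G).ncard = 4 := h4
  rw [e, Set.ncard_insert_of_notMem, Set.ncard_insert_of_notMem, Set.ncard_insert_of_notMem, Set.ncard_pair] at h2
  · omega
  · exact fun e => h e.symm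
  · rintro (e | e)
    · exact hbc e
    · exact ha1 (by simpa using (e : b = a * b))
  · rintro (e | e | e)
    · exact hab e
    · exact hac e
    · exact hb1 (by simpa using (e : a = a * b))
  · rintro (e | e | e | e)
    · exact ha1 e.symm
    · exact hb1 e.symm
    · exact hc1 e.symm
    · exact hab1 e.symm

/-- With three blocks `|Z_J| ≠ 4`. -/
theorem card_ne (h : LineV S Q V L W Z C A 2) (h3 : ∀ i j : ι, ∃ l, l ≠ i ∧ l ≠ j) (i : ι) :
    Nat.card (zj (S : Subgroup G)) ≠ 4 := by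
  intro h4
  obtain ⟨j, hj, -⟩ := h3 i i
  obtain ⟨l, hli, hlj⟩ := h3 i j
  obtain ⟨a, ha, ha1⟩ := Z_ne h i
  obtain ⟨b, hb, hb1⟩ := Z_ne h j
  obtain ⟨c, hc, hc1⟩ := Z_ne h l
  have hbi : b ∈ C i := Z_C h hj.symm hb
  have haj : a ∈ C j := Z_C h hj ha
  have hal : a ∈ C l := Z_C h hli ha
  have hbl : b ∈ C l := Z_C h hlj hb
  have na := not_mem_C h ha ha1
  have nb := not_mem_C h hb hb1
  have nc := not_mem_C h hc hc1
  refine five h4 (h.fr.Z_le i ha) (h.fr.Z_le j hb) (h.fr.Z_le l hc) ha1 hb1 hc1 ?_ ?_ ?_ ?_ ?_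
  · rintro rfl; exact na hbi
  · rintro rfl; exact nc hal
  · rintro rfl; exact nc hbl
  · rintro rfl; exact nc (mul_mem hal hbl)
  · intro e
    apply na
    have : a = b⁻¹ := eq_inv_of_mul_eq_one_left e
    rw [this]
    exact inv_mem hbi

/-- **UNI+**: `K0 ≤ ⟨C_G(Z_J), L i⟩` with three blocks. -/
theorem K0_le (h : LineV S Q V L W Z C A 2) (h3 : ∀ i j : ι, ∃ l, l ≠ i ∧ l ≠ j) :
    K0 (S : Subgroup G) (FBlk (S : Subgroup G)) ≤ centralizer (zj (S : Subgroup G) : Set G) ⊔ ⨆ i, L i := by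
  refine sup_le le_sup_left (iSup_le ?_)
  rintro ⟨⟨L', V'⟩, hb⟩
  obtain ⟨Z', q', hfb⟩ := hb.fb
  obtain ⟨-, i, -, -, h1⟩ := h.uniPlus hfb
  rcases h1 with ⟨-, -, h2⟩ | ⟨-, h4, -⟩
  · refine (h2 rfl).2.trans (sup_le ((le_iSup L i).trans le_sup_right) ?_)
    exact (centralizer_le (by exact_mod_cast (le_sup_right : zj (S : Subgroup G) ≤ W i ⊔ zj (S : Subgroup G)))).trans
      le_sup_left
  · exact absurd h4 (card_ne h h3 i)

/-- **No 2-group `≠ 1` is normalised by `C_G(Z_J)` and all `L i`.** -/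
theorem nl (B : RB S) (h : LineV S Q V L W Z C A 2) (h3 : ∀ i j : ι, ∃ l, l ≠ i ∧ l ≠ j) {R : Subgroup G}
    (hR : IsPGroup 2 R) (hD : centralizer (zj (S : Subgroup G) : Set G) ≤ normalizer (R : Set G))
    (hL : ∀ i, L i ≤ normalizer (R : Set G)) : R = ⊥ :=
  nl_K0 B h hR ((K0_le h h3).trans (sup_le hD (iSup_le hL)))

end Cfsg.Agent.Omega.NOThreeL.RRed.BFr.NlNeg
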