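import Cfsg.Agent.Mrg.Omega.OM.SwapV.LowZ
import Cfsg.Agent.Mrg.Omega.NOThreeL.RTree


/-!
# NO-3L, box R: `⟨C_G(Z_J), L i⟩` is nonlocal, stage `n ≥ 0`

`B = C_S(Z_J)`, `Z_J = Ω₁Z(lev S (n+1))`, the frame `LnV S V Q n L W Z C A` (any module `V`, `q = 2`, any `S`-orbits of
blocks), `lev S n ≤ O₂(R)` for all `R ∈ P*(S)`.

* `nl` : in box R no 2-group `≠ 1` is normalised by `C_G(Z_J)` and all `L i`.
-/

set_option autoImplicit false
set_option linter.unusedSectionVars false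

namespace Cfsg.Agent.Omega.NOThreeL.RRed.BFr.NlLev

open Subgroup Cfsg Cfsg.Agent.Omega.MinPar Cfsg.Agent.Omega.Frame Cfsg.Agent.ZN.ChoiceBase Cfsg.Agent.ZN.ChoiceSit
open Cfsg.Agent.ZN (zc o2)
open Cfsg.Agent.Omega.NO3S.Level (lev)
open Cfsg.Agent.Omega.OM.SwapL (ZL BL lb)
open Cfsg.Agent.Omega.OM.SwapV.Lv
open Cfsg.Agent.Omega.NOThreeL.RTree (RB)

universe u

variable {G : Type u} [Group G] [Finite G] {ι : Type} [Finite ι] {S : Sylow 2 G} {V Q : Subgroup G} {n : ℕ}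
  {L W Z C A : ι → Subgroup G}

/-- **No 2-group `≠ 1` is normalised by `C_G(Z_J)` and all `L i`.** -/
theorem nl (B : RB S) (hall : ∀ R : Subgroup G, IsParS (S : Subgroup G) R → lev (S : Subgroup G) n ≤ o2 R)
    (h : LnV S V Q n L W Z C A) {R : Subgroup G} (hR : IsPGroup 2 R)
    (hD : centralizer (ZL (S : Subgroup G) n : Set G) ≤ normalizer (R : Set G))
    (hL : ∀ i, L i ≤ normalizer (R : Set G)) : R = ⊥ := by
  by_contra hR1
  obtain ⟨O, hO2, hO1, -, hDO, -, hNO, hY, hH⟩ := nonLocZ h hR hR1 hD hL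
  obtain ⟨c, hcJ, hcf⟩ := exists_full h
  have hG := B.ctx.char2
  refine hO1 (FrameNOFF.eq_bot_of_norm B.ctx S B.full hO2 (fun P hP => ?_) ?_)
  · have hP' : IsParS (S : Subgroup G) P := hP
    by_cases h1 : lev (S : Subgroup G) (n + 1) ≤ o2 P
    · exact ((le_normalizer_o2 P).trans ((lb S n).nrm _ (isPGroup_o2 P) h1)).trans
        ((lb S n).norm_zj_le.trans (sup_le hDO hNO))
    · exact hY S P ⟨hP'.le, S.isPGroup', fun Q _ hQ hle => S.is_maximal' hQ hle⟩ (lb S n).BS hP'.toIsMinPar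
        (hP'.isLoc.char2 S hG) (hall P hP') h1 fun hc => hP'.not_zc (hc.trans (centralizer_le_normalizer _))
  · have h1 := isLoc_centralizer_zc S (B.ctx.sylow_ne_bot S)
    have hcS : c ∈ zc (S : Subgroup G) := by
      refine mem_zc.2 ⟨(lb S n).BS ((lb S n).ZB hcJ), (lb S n).sq c hcJ, fun s hs => ?_⟩
      exact full_cent h hcJ hcf S.isPGroup' (lb S n).BS hs
    exact hH c hcJ hcf _ ((lb S n).BS.trans h1.le) (centralizer_le (Set.singleton_subset_iff.2 hcS)) (h1.char2 S hG)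

end Cfsg.Agent.Omega.NOThreeL.RRed.BFr.NlLev
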