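import Cfsg.Agent.Mrg.Omega.NOThreeL.RRed.BFr.HM
import Cfsg.Agent.Mrg.Omega.ESym.Digraph
import Cfsg.Agent.Mrg.Omega.Assembly


/-!
# NO-3L, box R: `M ∩ N(B)` on the pairs; the regular cyclic case

`h : Lv S D X L J AA`, `B = C_S(Z_J)`, `M` transitive on the blocks.

* `W_inj`, `act`, `exists_perm` : `M ∩ N(B)` acts on the index set of the pairs;
* `swap3` : two pairs in one block are interchanged by an element which fixes a third pair;
* `Cyc h` : the permutations commute with one cycle `τ`;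
* `tr_S` : `Cyc`, at least three pairs, `M = ⟨P*(S)⟩`: then `S` is transitive on the pairs; `tr_S_two` : at most two pairs;
* `card_zc` : `S` transitive on the pairs: `|Ω₁Z(S)| ≤ 2`;
* **`not_cyc`**, **`three`** : if `|Ω₁Z(S)| ≥ 4`, then there are at least three pairs, and not `Cyc`.
-/

set_option autoImplicit false
set_option linter.unusedSectionVars false

namespace Cfsg.Agent.Omega.NOThreeL.RRed.BFr

open Subgroup Cfsg Cfsg.Agent.ZN Cfsg.Agent.ZN.ChoiceBase
open Cfsg.Agent.Omega.NO3S.OneLine (BFam)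
open Cfsg.Agent.MinSimple.MinParabolic (IsMinPar)

universe u

variable {G : Type u} [Group G]

/-- the kernel of `M` on the blocks -/
def Kb {M V : Subgroup G} {Pt I : Type} [Fintype Pt] [DecidableEq Pt] [DecidableEq I] (D : Pts M V Pt I) :
    Subgroup G where
  carrier := {k | k ∈ M ∧ ∀ z, D.blk (D.r k z) = D.blk z}
  mul_mem' := by
    rintro a b ⟨ha, ha'⟩ ⟨hb, hb'⟩
    exact ⟨mul_mem ha hb, fun z => by rw [D.r_mul ha hb, Equiv.Perm.mul_apply, ha', hb']⟩
  one_mem' := ⟨one_mem _, fun z => by rw [D.r_one]; rfl⟩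
  inv_mem' := by
    rintro a ⟨ha, ha'⟩
    refine ⟨inv_mem ha, fun z => ?_⟩
    have h1 := ha' (D.r a⁻¹ z)
    rw [D.r_inv ha] at h1 ⊢
    rw [apply_inv_self'] at h1
    exact h1.symm

namespace Lv

variable {S : Sylow 2 G} {M V : Subgroup G} {Pt I : Type} [Fintype Pt] [DecidableEq Pt] [DecidableEq I]
variable {D : Pts M V Pt I} {X L J : Subgroup G} {AA : Set (Subgroup G)}

theorem Kb_le : Kb D ≤ M := fun _ hk => hk.1

theorem Kb_conj {g k : G} (hg : g ∈ M) (hk : k ∈ Kb D) : g * k * g⁻¹ ∈ Kb D := by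
  obtain ⟨hk, hk'⟩ := hk
  refine ⟨mul_mem (mul_mem hg hk) (inv_mem hg), fun z => ?_⟩
  rw [D.r_mul (mul_mem hg hk) (inv_mem hg), D.r_mul hg hk, D.r_inv hg, Equiv.Perm.mul_apply, Equiv.Perm.mul_apply]
  have h1 := D.r_blk hg (hk' ((D.r g)⁻¹ z))
  rwa [apply_inv_self'] at h1

variable [Finite G] (h : Lv S D X L J AA)
include h

theorem W_ne (i : Idx D AA) : h.W i ≠ ⊥ := by
  intro e
  obtain ⟨v, hv, h1, -⟩ := h.exists_W i 1 0
  rw [e, mem_bot] at hv
  rw [hv, D.map_one, Pi.zero_apply] at h1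
  exact absurd h1 (by decide)

theorem W_inj {i j : Idx D AA} (e : h.W i = h.W j) : i = j := by
  by_contra hne
  have h1 : h.W i ≤ C D i := e.le.trans (h.W_le_C hne)
  apply h.W_ne i
  rw [← h.dir i]
  exact le_antisymm (le_inf le_rfl h1) inf_le_left

/-- `M ∩ N(B)` on the pairs -/
theorem act {g : G} (hg : g ∈ M) (hn : g ∈ normalizer (BB (S : Subgroup G) V J : Set G)) (i : Idx D AA) :
    ∃ j, cj g (h.W i) = h.W j ∧ Mem j (D.r g (xx i)) ∧ D.blk (xx j) = D.blk (D.r g (xx i)) := by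
  have hp := h.PP_of_norm hg hn
  obtain ⟨j, hj, -⟩ := h.mem_of_pr ((hp _ _).2 (pr_i i))
  exact ⟨j, h.cj_W hg hp (Or.inl rfl) hj, hj, hj.blk.symm⟩

theorem exists_perm {g : G} (hg : g ∈ M) (hn : g ∈ normalizer (BB (S : Subgroup G) V J : Set G)) :
    ∃ π : Equiv.Perm (Idx D AA), (∀ l, cj g (h.W l) = h.W (π l)) ∧ (∀ l, Mem (π l) (D.r g (xx l))) ∧
      ∀ l, D.blk (xx (π l)) = D.blk (D.r g (xx l)) := by
  choose f hf using fun i => h.act hg hn i
  have hinj : Function.Injective f := by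
    intro i j e
    have h1 := (hf i).1
    rw [e, ← (hf j).1] at h1
    have h2 := congrArg (cj g⁻¹) h1
    rw [cj_inv_cj, cj_inv_cj] at h2
    exact h.W_inj h2
  exact ⟨Equiv.ofBijective f (Finite.injective_iff_bijective.1 hinj), fun l => (hf l).1, fun l => (hf l).2.1,
    fun l => (hf l).2.2⟩

theorem S_norm : (S : Subgroup G) ≤ normalizer (BB (S : Subgroup G) V J : Set G) := by
  intro s hs
  have h1 : cj s (sSup AA) = sSup AA := by
    refine h.cj_J0 (h.SM hs) ((cj_mono s h.J0S).trans ?_)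
    rw [cj_eq_of_mem_normalizer (Subgroup.le_normalizer hs)]
  rw [mem_normalizer_iff_cj, BB, cj_inf, cj_centralizer, h.norm_ZJ (h.SM hs) h1,
    cj_eq_of_mem_normalizer (Subgroup.le_normalizer hs)]

/-- **two pairs in the same block, a third pair** -/
theorem swap3 {i j l : Idx D AA} (hij : i ≠ j) (hli : l ≠ i) (hlj : l ≠ j) (hb : D.blk (xx i) = D.blk (xx j)) :
    ∃ g ∈ M, g ∈ normalizer (BB (S : Subgroup G) V J : Set G) ∧ cj g (h.W i) = h.W j ∧ cj g (h.W l) = h.W l := by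
  have n1 := ne_i i
  have n2 := ne_i j
  have d : ∀ a b, Mem i a → Mem j b → a ≠ b := fun a b ha hb' e => hij (h.mem_inj ha (e ▸ hb'))
  have d1 := d (xx i) (xx j) (Or.inl rfl) (Or.inl rfl)
  have d2 := d (xx i) (yy j) (Or.inl rfl) (Or.inr rfl)
  have d3 := d (yy i) (xx j) (Or.inr rfl) (Or.inl rfl)
  have d4 := d (yy i) (yy j) (Or.inr rfl) (Or.inr rfl)
  obtain ⟨t, ht, et⟩ := D.full (xx i) (xx j) d1 hb
  obtain ⟨s, hs, es⟩ := D.full (yy i) (yy j) d4 ((blk_i i).symm.trans (hb.trans (blk_i j)))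
  have e1 : D.r t = Equiv.swap (xx i) (xx j) := D.r_eq ht et
  have e2 : D.r s = Equiv.swap (yy i) (yy j) := D.r_eq hs es
  have hm := mul_mem hs ht
  have er : D.r (s * t) = Equiv.swap (yy i) (yy j) * Equiv.swap (xx i) (xx j) := by rw [D.r_mul hs ht, e1, e2]
  have a1 : D.r (s * t) (xx i) = xx j := by
    rw [er, Equiv.Perm.mul_apply, Equiv.swap_apply_left, Equiv.swap_apply_of_ne_of_ne d3.symm n2]
  have a2 : D.r (s * t) (yy i) = yy j := by
    rw [er, Equiv.Perm.mul_apply, Equiv.swap_apply_of_ne_of_ne n1.symm d3, Equiv.swap_apply_left]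
  have a3 : D.r (s * t) (xx j) = xx i := by
    rw [er, Equiv.Perm.mul_apply, Equiv.swap_apply_right, Equiv.swap_apply_of_ne_of_ne n1 d2]
  have a4 : D.r (s * t) (yy j) = yy i := by
    rw [er, Equiv.Perm.mul_apply, Equiv.swap_apply_of_ne_of_ne d2.symm n2.symm, Equiv.swap_apply_right]
  have a5 : ∀ z, ¬ Mem i z → ¬ Mem j z → D.r (s * t) z = z := by
    intro z h1 h2
    rw [er, Equiv.Perm.mul_apply, Equiv.swap_apply_of_ne_of_ne (fun e => h1 (Or.inl e)) (fun e => h2 (Or.inl e)),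
      Equiv.swap_apply_of_ne_of_ne (fun e => h1 (Or.inr e)) (fun e => h2 (Or.inr e))]
  have hfwd : ∀ x y, Pr D AA x y → Pr D AA (D.r (s * t) x) (D.r (s * t) y) := by
    intro x y hp
    obtain ⟨k, hx, hy⟩ := h.mem_of_pr hp
    by_cases hki : k = i
    · subst hki
      rcases hx with e3 | e3 <;> rcases hy with e4 | e4
      · exact absurd (e3.trans e4.symm) hp.1
      · rw [e3, e4, a1, a2]; exact pr_i j
      · rw [e3, e4, a1, a2]; exact (pr_i j).symm
      · exact absurd (e3.trans e4.symm) hp.1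
    by_cases hkj : k = j
    · subst hkj
      rcases hx with e3 | e3 <;> rcases hy with e4 | e4
      · exact absurd (e3.trans e4.symm) hp.1
      · rw [e3, e4, a3, a4]; exact pr_i i
      · rw [e3, e4, a3, a4]; exact (pr_i i).symm
      · exact absurd (e3.trans e4.symm) hp.1
    rw [a5 x (fun e => hki (h.mem_inj hx e)) (fun e => hkj (h.mem_inj hx e)),
      a5 y (fun e => hki (h.mem_inj hy e)) (fun e => hkj (h.mem_inj hy e))]
    exact hp
  have hinv : ∀ z, D.r (s * t) (D.r (s * t) z) = z := by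
    intro z
    by_cases h1 : Mem i z
    · rcases h1 with e3 | e3
      · rw [e3, a1, a3]
      · rw [e3, a2, a4]
    · by_cases h2 : Mem j z
      · rcases h2 with e3 | e3
        · rw [e3, a3, a1]
        · rw [e3, a4, a2]
      · rw [a5 z h1 h2, a5 z h1 h2]
  have hPP : PP D AA (s * t) := by
    intro x y
    refine ⟨fun hp => ?_, hfwd x y⟩
    have := hfwd _ _ hp
    rwa [hinv, hinv] at this
  obtain ⟨g, hg, hgn, hgm⟩ := h.correct hm hPP
  have hp := h.PP_of_norm hg hgn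
  have m1 : Mem j (D.r g (xx i)) := hgm j (xx i) (by rw [a1]; exact Or.inl rfl)
  have m2 : Mem l (D.r g (xx l)) := hgm l (xx l) (by
    rw [a5 (xx l) (fun e => hli (h.mem_inj (Or.inl rfl) e)) (fun e => hlj (h.mem_inj (Or.inl rfl) e))]
    exact Or.inl rfl)
  exact ⟨g, hg, hgn, h.cj_W hg hp (Or.inl rfl) m1, h.cj_W hg hp (Or.inl rfl) m2⟩

/-- every element of `M` can be corrected by an element of `Kb` to normalise `B` -/
theorem exists_corr {m : G} (hm : m ∈ M) : ∃ k ∈ Kb D, k * m ∈ normalizer (BB (S : Subgroup G) V J : Set G) := by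
  set K := Kb D with hKdef
  have hKM : K ≤ M := fun _ hk => hk.1
  have hcjK : ∀ g ∈ M, cj g K ≤ K := by
    rintro g hg _ ⟨k, hk, rfl⟩
    exact Kb_conj hg hk
  set SK : Subgroup G := (S : Subgroup G) ⊓ K with hSK
  have hSKp : IsPGroup 2 SK := S.isPGroup'.to_le inf_le_left
  have hsyl : ∀ R : Subgroup G, R ≤ K → IsPGroup 2 R → SK ≤ R → R = SK := by
    intro R hR hRp hle
    obtain ⟨m', hm', hm'S⟩ := exists_into S h.SM hRp (hR.trans hKM)
    have h1 : cj m' R ≤ SK := le_inf hm'S ((cj_mono m' hR).trans (hcjK m' hm'))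
    refine (Subgroup.eq_of_le_of_card_ge hle ?_).symm
    rw [← card_cj m' R]
    exact Subgroup.card_le_of_le h1
  have hcm : cj m SK ≤ K := (cj_mono m inf_le_right).trans (hcjK m hm)
  have hcmp : IsPGroup 2 (cj m SK : Subgroup G) := hSKp.map _
  obtain ⟨k, hk, R, hRK, hRp, hSR, hkR⟩ := exists_common hSKp hcmp inf_le_right hcm
  have hR := hsyl R hRK hRp hSR
  have hkM : k ∈ M := hKM hk
  have hgM : k * m ∈ M := mul_mem hkM hm
  have h1 : cj (k * m) SK = SK := by
    rw [← cj_cj]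
    refine Subgroup.eq_of_le_of_card_ge (hkR.trans hR.le) ?_
    rw [card_cj, card_cj]
  have hBK : BB (S : Subgroup G) V J ≤ K := fun b hb => ⟨h.B_le_M hb, h.Pp_blk (h.B_le_M hb) (h.B_Pp hb)⟩
  have hBeq : BB (S : Subgroup G) V J = SK ⊓ centralizer (ZJ V J : Set G) := by
    apply le_antisymm
    · exact le_inf (le_inf inf_le_left hBK) inf_le_right
    · exact inf_le_inf_right _ inf_le_left
  have hJ0 : cj (k * m) (sSup AA) = sSup AA := by
    refine h.cj_J0 hgM ?_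
    have h2 : sSup AA ≤ SK := le_inf h.J0S (h.J0_le_B.trans hBK)
    refine (cj_mono _ h2).trans ?_
    rw [h1]
    exact inf_le_left
  refine ⟨k, hk, mem_normalizer_iff_cj.2 ?_⟩
  rw [hBeq, cj_inf, cj_centralizer, h1, h.norm_ZJ hgM hJ0]

/-- the permutations commute with one cycle -/
def Cyc : Prop := ∃ τ : Equiv.Perm (Idx D AA), (∀ i j, ∃ n : ℕ, (τ ^ n) i = j) ∧
  ∀ g ∈ M, g ∈ normalizer (BB (S : Subgroup G) V J : Set G) → ∀ π : Equiv.Perm (Idx D AA),
    (∀ l, cj g (h.W l) = h.W (π l)) → ∀ i, π (τ i) = τ (π i)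

/-- `Cyc`: different pairs are in different blocks -/
theorem inj_of (hc : h.Cyc) (three : ∀ i j : Idx D AA, ∃ l, l ≠ i ∧ l ≠ j) {i j : Idx D AA}
    (hb : D.blk (xx i) = D.blk (xx j)) : i = j := by
  by_contra hij
  obtain ⟨τ, h1, h2⟩ := hc
  obtain ⟨l, hli, hlj⟩ := three i j
  obtain ⟨g, hg, hn, e1, e2⟩ := h.swap3 hij hli hlj hb
  obtain ⟨π, hπ, -⟩ := h.exists_perm hg hn
  have e3 : π l = l := h.W_inj ((hπ l).symm.trans e2)
  have e4 : π i = j := h.W_inj ((hπ i).symm.trans e1)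
  exact hij ((ESym.CoreT.eq_of_fix h1 (h2 g hg hn π hπ) e3 i).symm.trans e4)

/-- `Cyc`: `M / Kb` is abelian -/
theorem comm_mem (hc : h.Cyc) {x y : G} (hx : x ∈ M) (hy : y ∈ M) : x * y * x⁻¹ * y⁻¹ ∈ Kb D := by
  obtain ⟨τ, h1, h2⟩ := hc
  have key : ∀ m ∈ M, ∃ π : Equiv.Perm (Idx D AA), (∀ i, π (τ i) = τ (π i)) ∧
      ∀ l, D.blk (xx (π l)) = D.blk (D.r m (xx l)) := by
    intro m hm
    obtain ⟨k, hk, hkn⟩ := h.exists_corr hm
    have hkM : k ∈ M := hk.1
    obtain ⟨π, hπ, -, hb⟩ := h.exists_perm (mul_mem hkM hm) hkn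
    refine ⟨π, h2 _ (mul_mem hkM hm) hkn π hπ, fun l => ?_⟩
    rw [hb l, D.r_mul hkM hm, Equiv.Perm.mul_apply, hk.2]
  obtain ⟨p, hp, hp'⟩ := key x hx
  obtain ⟨q, hq, hq'⟩ := key y hy
  have hxy : ∀ z, D.blk (D.r (x * y) z) = D.blk (D.r (y * x) z) := by
    intro z
    obtain ⟨i, hi⟩ := h.exists_idx z
    rw [D.r_mul hx hy, D.r_mul hy hx, Equiv.Perm.mul_apply, Equiv.Perm.mul_apply]
    have a1 : D.blk (D.r x (D.r y z)) = D.blk (xx (p (q i))) := by
      rw [hp' (q i)]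
      refine D.r_blk hx ?_
      rw [hq' i]
      exact D.r_blk hy hi.symm
    have a2 : D.blk (D.r y (D.r x z)) = D.blk (xx (q (p i))) := by
      rw [hq' (p i)]
      refine D.r_blk hy ?_
      rw [hp' i]
      exact D.r_blk hx hi.symm
    rw [a1, a2, ESym.CoreT.comm_of h1 hp hq i]
  have hm1 : x⁻¹ * y⁻¹ ∈ M := mul_mem (inv_mem hx) (inv_mem hy)
  have hM : x * y * x⁻¹ * y⁻¹ ∈ M := mul_mem (mul_mem (mul_mem hx hy) (inv_mem hx)) (inv_mem hy)
  refine ⟨hM, fun z => ?_⟩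
  have e : x * y * x⁻¹ * y⁻¹ = (x * y) * (x⁻¹ * y⁻¹) := by group
  rw [e, D.r_mul (mul_mem hx hy) hm1, Equiv.Perm.mul_apply, hxy, ← Equiv.Perm.mul_apply,
    ← D.r_mul (mul_mem hy hx) hm1]
  have e' : (y * x) * (x⁻¹ * y⁻¹) = 1 := by group
  rw [e', D.r_one]
  rfl

/-- `Cyc`: the minimal parabolics are in `S Kb` -/
theorem par_le (hc : h.Cyc) {P : Subgroup G} (hP : IsMinPar (S : Subgroup G) P) (hPM : P ≤ M) :
    P ≤ (S : Subgroup G) ⊔ Kb D := by
  have hN : P ≤ normalizer ((P ⊓ ((S : Subgroup G) ⊔ Kb D) : Subgroup G) : Set G) := by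
    intro g hg
    rw [mem_normalizer_iff_cj]
    refine Subgroup.eq_of_le_of_card_ge ?_ (by rw [card_cj])
    rintro _ ⟨n, ⟨hn1, hn2⟩, rfl⟩
    refine mem_inf.2 ⟨mul_mem (mul_mem hg hn1) (inv_mem hg), ?_⟩
    have h1 := h.comm_mem hc (hPM hg) (hPM hn1)
    have e : g * n * g⁻¹ = (g * n * g⁻¹ * n⁻¹) * n := by group
    change g * n * g⁻¹ ∈ _
    rw [e]
    exact mul_mem (mem_sup_right h1) hn2
  have hS2 : ¬ 2 ∣ (S : Subgroup G).relIndex P := by
    intro hd
    have h1 : (S : Subgroup G).relIndex P ∣ (S : Subgroup G).index := relIndex_dvd_index_of_le hP.le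
    exact S.not_dvd_index (hd.trans h1)
  rcases hP.sup_eq_or_inf_le S.isPGroup' hS2 inf_le_left hN with h1 | h1
  · rw [← h1]
    exact sup_le inf_le_right le_sup_left
  · exfalso
    have h2 : (S : Subgroup G) ≤ o2 P := le_trans (le_inf le_rfl (le_inf hP.le le_sup_left)) h1
    have h3 : o2 P = (S : Subgroup G) :=
      (Subgroup.eq_of_le_of_card_ge h2 (by
        have := S.is_maximal' (ChoiceSit.isPGroup_o2 P) h2
        rw [this])).symm
    apply hP.not_le
    have h4 := MinSimple.VModule.le_normalizer_o2 P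
    rwa [h3] at h4

/-- **`Cyc`: `S` is transitive on the pairs** -/
theorem tr_S (hc : h.Cyc) (three : ∀ i j : Idx D AA, ∃ l, l ≠ i ∧ l ≠ j)
    (tr : ∀ x y : Pt, ∃ m ∈ M, D.blk (D.r m x) = D.blk y)
    (hM : M ≤ sSup {P : Subgroup G | IsMinPar (S : Subgroup G) P ∧ P ≤ M}) (i j : Idx D AA) :
    ∃ s ∈ (S : Subgroup G), cj s (h.W i) = h.W j := by
  obtain ⟨m, hm, hmb⟩ := tr (xx i) (xx j)
  have h1 : M ≤ (S : Subgroup G) ⊔ Kb D := hM.trans (sSup_le fun P hP => h.par_le hc hP.1 hP.2)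
  have hnK : (S : Subgroup G) ≤ normalizer (Kb D : Set G) := by
    intro s hs
    rw [mem_normalizer_iff_cj]
    refine Subgroup.eq_of_le_of_card_ge ?_ (by rw [card_cj])
    rintro _ ⟨k, hk, rfl⟩
    exact Kb_conj (h.SM hs) hk
  have h2 := h1 hm
  rw [← SetLike.mem_coe, coe_mul_of_left_le_normalizer_right _ _ hnK] at h2
  obtain ⟨s, hs, k, hk, rfl⟩ := Set.mem_mul.1 h2
  have hkM : k ∈ M := Kb_le hk
  refine ⟨s, hs, ?_⟩
  obtain ⟨j', e1, -, e2⟩ := h.act (h.SM hs) (h.S_norm hs) i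
  rw [e1]
  congr 1
  apply h.inj_of hc three
  rw [e2, ← hmb, D.r_mul (h.SM hs) hkM, Equiv.Perm.mul_apply]
  exact D.r_blk (h.SM hs) (hk.2 (xx i)).symm

/-- at most two pairs: `S` is transitive on the pairs -/
theorem tr_S_two (tr : ∀ x y : Pt, ∃ m ∈ M, D.blk (D.r m x) = D.blk y)
    {a b : Idx D AA} (hab : ∀ l, l = a ∨ l = b) (i j : Idx D AA) :
    ∃ s ∈ (S : Subgroup G), cj s (h.W i) = h.W j := by
  by_cases hij : i = j
  · exact ⟨1, one_mem _, by rw [cj_one, hij]⟩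
  have hl : ∀ l, l = i ∨ l = j := by
    intro l
    rcases hab i with h1 | h1 <;> rcases hab j with h2 | h2 <;> rcases hab l with h3 | h3
    · exact absurd (h1.trans h2.symm) hij
    · exact absurd (h1.trans h2.symm) hij
    · exact Or.inl (h3.trans h1.symm)
    · exact Or.inr (h3.trans h2.symm)
    · exact Or.inr (h3.trans h2.symm)
    · exact Or.inl (h3.trans h1.symm)
    · exact absurd (h1.trans h2.symm) hij
    · exact absurd (h1.trans h2.symm) hij
  by_contra hcon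
  push Not at hcon
  -- `S` fixes `i`
  have hSi : ∀ s ∈ (S : Subgroup G), cj s (h.W i) = h.W i := by
    intro s hs
    obtain ⟨j', e1, -, -⟩ := h.act (h.SM hs) (h.S_norm hs) i
    rcases hl j' with rfl | rfl
    · exact e1
    · exact absurd e1 (hcon s hs)
  set T : Subgroup G := M ⊓ normalizer (BB (S : Subgroup G) V J : Set G) with hT
  set T0 : Subgroup G := T ⊓ normalizer (h.W i : Set G) with hT0
  have hST : (S : Subgroup G) ≤ T := le_inf h.SM h.S_norm
  have hST0 : (S : Subgroup G) ≤ T0 := le_inf hST fun s hs => mem_normalizer_iff_cj.2 (hSi s hs)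
  have hT0T : T0 ≤ T := inf_le_left
  have hmem : ∀ t ∈ T, t ∈ T0 ∨ cj t (h.W i) = h.W j := by
    intro t ht
    obtain ⟨j', e1, -, -⟩ := h.act ht.1 ht.2 i
    rcases hl j' with rfl | rfl
    · exact Or.inl ⟨ht, mem_normalizer_iff_cj.2 e1⟩
    · exact Or.inr e1
  obtain ⟨g, hg, hgn, hgW⟩ := h.hM tr i j
  have hgT : g ∈ T := ⟨hg, hgn⟩
  -- index two
  have h2 : T0.relIndex T = 2 := by
    have : (T0.subgroupOf T).index = 2 := by
      rw [Subgroup.index_eq_two_iff]
      refine ⟨⟨g⁻¹, inv_mem hgT⟩, fun t => ?_⟩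
      have key : ∀ t ∈ T, (t * g⁻¹ ∈ T0 ↔ cj t⁻¹ (h.W i) = h.W j) := by
        intro t ht
        constructor
        · intro h3
          have h4 := cj_eq_of_mem_normalizer (inv_mem h3.2)
          rw [mul_inv_rev, inv_inv, ← cj_cj] at h4
          rcases hmem t⁻¹ (inv_mem ht) with h5 | h5
          · exfalso
            rw [cj_eq_of_mem_normalizer h5.2, hgW] at h4
            exact hij (h.W_inj h4.symm)
          · exact h5
        · intro h3
          refine mem_inf.2 ⟨mul_mem ht (inv_mem hgT), ?_⟩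
          rw [← inv_mem_iff, mul_inv_rev, inv_inv, mem_normalizer_iff_cj, ← cj_cj, h3]
          -- `g` maps `W j` to `W i`
          obtain ⟨π, hπ, -, -⟩ := h.exists_perm hg hgn
          have e1 : π i = j := h.W_inj ((hπ i).symm.trans hgW)
          have e2 : π j = i := by
            rcases hl (π j) with e3 | e3
            · exact e3
            · exact absurd (π.injective (e3.trans e1.symm)) (Ne.symm hij)
          rw [hπ j, e2]
      rw [mem_subgroupOf, mem_subgroupOf]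
      change Xor ((t : G) * g⁻¹ ∈ T0) ((t : G) ∈ T0)
      rw [key t t.2]
      rcases hmem (t : G)⁻¹ (inv_mem t.2) with h5 | h5
      · refine Or.inr ⟨by simpa using inv_mem h5, fun h6 => ?_⟩
        rw [cj_eq_of_mem_normalizer h5.2] at h6
        exact hij (h.W_inj h6)
      · refine Or.inl ⟨h5, fun h6 => ?_⟩
        rw [cj_eq_of_mem_normalizer (inv_mem h6.2)] at h5
        exact hij (h.W_inj h5)
    exact this
  have h3 : 2 ∣ (S : Subgroup G).relIndex T := by
    have h4 := relIndex_mul_relIndex (S : Subgroup G) T0 T hST0 hT0T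
    rw [← h4, h2]
    exact dvd_mul_left _ _
  exact S.not_dvd_index (h3.trans (relIndex_dvd_index_of_le hST))

/-- **`S` transitive on the pairs: `|Ω₁Z(S)| ≤ 2`** -/
theorem card_zc [Nonempty (Idx D AA)] (hS : ∀ i j : Idx D AA, ∃ s ∈ (S : Subgroup G), cj s (h.W i) = h.W j)
    (hz : zc (S : Subgroup G) ≤ ZJ V J) : Nat.card (zc (S : Subgroup G)) ≤ 2 := by
  obtain ⟨i₀⟩ := ‹Nonempty (Idx D AA)›
  have hinv : ∀ z ∈ zc (S : Subgroup G), ∀ i j : Idx D AA, D.e z (xx i) = D.e z (xx j) := by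
    intro z hzS i j
    have hzJ := hz hzS
    have hzV : z ∈ V := hzJ.1
    have hpair := (h.mem_ZJ_iff hzV).1 hzJ
    obtain ⟨s, hs, e⟩ := hS i j
    obtain ⟨j', e1, hm, -⟩ := h.act (h.SM hs) (h.S_norm hs) i
    have e2 : j' = j := h.W_inj (e1.symm.trans e)
    subst e2
    have h1 := (D.comm_iff (h.SM hs) hzV).1 ((ChoiceBase.mem_zc.1 hzS).2.2 s hs) (xx i)
    rw [← h1]
    rcases hm with e3 | e3
    · rw [e3]
    · rw [e3]; exact (hpair j').symm
  have hinj : Function.Injective (fun z : zc (S : Subgroup G) => D.e (z : G) (xx i₀)) := by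
    intro z z' e
    have e' : D.e (z : G) (xx i₀) = D.e (z' : G) (xx i₀) := e
    have hzV : (z : G) ∈ V := (hz z.2).1
    have hzV' : (z' : G) ∈ V := (hz z'.2).1
    have p1 := (h.mem_ZJ_iff hzV).1 (hz z.2)
    have p2 := (h.mem_ZJ_iff hzV').1 (hz z'.2)
    apply Subtype.ext
    have h1 : (z : G) * (z' : G)⁻¹ = 1 := by
      refine h.eq_one_of (mul_mem hzV (inv_mem hzV')) fun i => ?_
      have a1 : D.e (z : G) (xx i) = D.e (z' : G) (xx i) := by
        rw [hinv z z.2 i i₀, hinv z' z'.2 i i₀, e']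
      have a2 : ∀ x, D.e (z : G) x = D.e (z' : G) x → D.e ((z : G) * (z' : G)⁻¹) x = 0 := by
        intro x hx
        rw [D.mul _ hzV _ (inv_mem hzV'), D.map_inv hzV', Pi.add_apply, hx]
        exact add_self _
      exact ⟨a2 _ a1, a2 _ (by rw [← p1 i, ← p2 i, a1])⟩
    exact mul_inv_eq_one.1 h1
  have h1 := Nat.card_le_card_of_injective _ hinj
  have h2 : Nat.card (ZMod 2) = 2 := Nat.card_zmod 2
  omega

/-- at least three pairs -/
theorem three [Nonempty (Idx D AA)] (tr : ∀ x y : Pt, ∃ m ∈ M, D.blk (D.r m x) = D.blk y)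
    (hz : zc (S : Subgroup G) ≤ ZJ V J) (h4 : 4 ≤ Nat.card (zc (S : Subgroup G))) (i j : Idx D AA) :
    ∃ l, l ≠ i ∧ l ≠ j := by
  by_contra hcon
  push Not at hcon
  have h1 : ∀ l, l = i ∨ l = j := fun l => by
    by_cases hl : l = i
    · exact Or.inl hl
    · exact Or.inr (hcon l hl)
  have := h.card_zc (h.tr_S_two tr h1) hz
  omega

/-- **not the regular cyclic case** -/
theorem not_cyc [Nonempty (Idx D AA)] (tr : ∀ x y : Pt, ∃ m ∈ M, D.blk (D.r m x) = D.blk y)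
    (hM : M ≤ sSup {P : Subgroup G | IsMinPar (S : Subgroup G) P ∧ P ≤ M})
    (hz : zc (S : Subgroup G) ≤ ZJ V J) (h4 : 4 ≤ Nat.card (zc (S : Subgroup G))) : ¬ h.Cyc := by
  intro hc
  have := h.card_zc (h.tr_S hc (h.three tr hz h4) tr hM) hz
  omega

end Lv

end Cfsg.Agent.Omega.NOThreeL.RRed.BFr
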