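import Cfsg.Agent.Omega.NOThreeL.RRed.BFr.Pts
import Cfsg.Agent.Mrg.Omega.NOThreeL.RRed.TvFin
import Cfsg.Agent.Mrg.Omega.NOThreeL.RRed.Blk.Dich


/-!
# NO-3L, box R: the coordinates of `BFr.Pts` from the block theorem

`F : TvFin.Full S M V N E ⊥ Om phi` : `V = ∏ N i`, `N i` = even subsets of `Om i`.

* `cs F i v` : the even set of the `i`-component of `v`; `co F v` : the coordinates of `v`;
* **`ofFull F : BFr.Pts M V (Fin _) (Fin _)`**; `fP`, `cI` : the identification of the letters and of the blocks;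
* `ofFull_r` : the permutation of the letters induced by `g ∈ M`; `cent_iff` : `g ∈ C(N i)` iff `g` fixes the letters of
  block `i`.
-/

set_option autoImplicit false
set_option linter.unusedSectionVars false

namespace Cfsg.Agent.Omega.NOThreeL.RRed.BFr

open Subgroup Cfsg
open Cfsg.Agent.Omega.NOThreeL.RRed.Blk (Dec IsC Co)
open Cfsg.Agent.Omega.NOThreeL.RRed.TvFin (Full TvV)
open Cfsg.Agent.Omega.KL.TwoS (Rel Lett even_symmDiff)
open scoped Pointwise

universe u

variable {G : Type u} [Group G]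

section main

variable {S M V : Subgroup G} {I : Type u} [Fintype I] [DecidableEq I] {N E : I → Subgroup G} {Om : I → Type u}
  [∀ i, Fintype (Om i)] [∀ i, DecidableEq (Om i)] {phi : ∀ i, Finset (Om i) → G}
  (F : Full S M V N E ⊥ Om phi)

include F

theorem exists_cs (i : I) {v : G} (hv : v ∈ V) : ∃ s : Finset (Om i), Even s.card ∧ IsC N ⊥ i v (phi i s) := by
  obtain ⟨n, hn⟩ := F.toDec.ex_comp i hv
  obtain ⟨s, hs, rfl⟩ := ((F.lett i).mem n).1 hn.1
  exact ⟨s, hs, hn⟩

theorem cs_unique {i : I} {v : G} {s t : Finset (Om i)} (hs : Even s.card) (ht : Even t.card)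
    (h1 : IsC N ⊥ i v (phi i s)) (h2 : IsC N ⊥ i v (phi i t)) : s = t :=
  (F.lett i).phi_inj hs ht (F.toDec.uniq h1 h2)

open Classical in
/-- the even set of the `i`-component of `v` -/
noncomputable def cs (i : I) (v : G) : Finset (Om i) := if hv : v ∈ V then (exists_cs F i hv).choose else ∅

theorem cs_even (i : I) {v : G} (hv : v ∈ V) : Even (cs F i v).card := by
  unfold cs; rw [dif_pos hv]; exact (exists_cs F i hv).choose_spec.1

theorem cs_isC (i : I) {v : G} (hv : v ∈ V) : IsC N ⊥ i v (phi i (cs F i v)) := by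
  unfold cs; rw [dif_pos hv]; exact (exists_cs F i hv).choose_spec.2

theorem cs_eq {i : I} {v : G} (hv : v ∈ V) {s : Finset (Om i)} (hs : Even s.card) (h : IsC N ⊥ i v (phi i s)) :
    cs F i v = s := cs_unique F (cs_even F i hv) hs (cs_isC F i hv) h

theorem cs_mul (i : I) {v u : G} (hv : v ∈ V) (hu : u ∈ V) : cs F i (v * u) = symmDiff (cs F i v) (cs F i u) := by
  refine cs_eq F (mul_mem hv hu) (even_symmDiff (cs_even F i hv) (cs_even F i hu)) ?_
  rw [(F.lett i).mul]
  exact F.toDec.comp_mul (cs_isC F i hv) (cs_isC F i hu)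

theorem eq_one_of_cs {v : G} (hv : v ∈ V) (h : ∀ i, cs F i v = ∅) : v = 1 := by
  have h1 : v ∈ (⊥ : Subgroup G) := by
    refine F.toDec.mem_R hv fun i => ?_
    have h2 := cs_isC F i hv
    rw [h i, (F.lett i).phi_empty] at h2
    exact h2
  exact Subgroup.mem_bot.1 h1

theorem exists_of_sets (s : ∀ i, Finset (Om i)) (hs : ∀ i, Even (s i).card) : ∃ v ∈ V, ∀ i, cs F i v = s i := by
  have key : ∀ T : Finset I, ∃ v ∈ V, ∀ i, IsC N ⊥ i v (if i ∈ T then phi i (s i) else 1) := by
    intro T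
    induction T using Finset.induction_on with
    | empty =>
      refine ⟨1, one_mem _, fun i => ?_⟩
      rw [if_neg (by simp)]
      exact F.toDec.comp_one (one_mem _)
    | insert j T hj ih =>
      obtain ⟨v, hv, h⟩ := ih
      have hm : phi j (s j) ∈ N j := ((F.lett j).mem _).2 ⟨_, hs j, rfl⟩
      refine ⟨phi j (s j) * v, mul_mem (F.toDec.NU j hm) hv, fun i => ?_⟩
      by_cases hij : i = j
      · subst hij
        have h1 := F.toDec.comp_mul (F.toDec.comp_self hm) (h i)
        rw [if_neg hj, mul_one] at h1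
        rw [if_pos (Finset.mem_insert_self _ _)]
        exact h1
      · have h1 := F.toDec.comp_mul (F.toDec.comp_ne (Ne.symm hij) hm) (h i)
        rw [one_mul] at h1
        by_cases hi : i ∈ T
        · rw [if_pos hi] at h1
          rw [if_pos (Finset.mem_insert_of_mem hi)]
          exact h1
        · rw [if_neg hi] at h1
          rw [if_neg]
          · exact h1
          · rw [Finset.mem_insert, not_or]; exact ⟨hij, hi⟩
  obtain ⟨v, hv, h⟩ := key Finset.univ
  refine ⟨v, hv, fun i => cs_eq F hv (hs i) ?_⟩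
  have := h i
  rwa [if_pos (Finset.mem_univ i)] at this

/-- `g ∈ M` acting by `(τ, σ)` on the letters -/
theorem cs_conj {g : G} (hg : g ∈ M) {i j : I} (hij : MulAut.conj g • N i = N j) {σ : Om i ≃ Om j}
    (h : ∀ s : Finset (Om i), Even s.card → g * phi i s * g⁻¹ = phi j (s.map σ.toEmbedding)) {v : G} (hv : v ∈ V) :
    cs F j (g * v * g⁻¹) = (cs F i v).map σ.toEmbedding := by
  refine cs_eq F ((mem_normalizer_iff.1 (F.toDec.LU hg) v).1 hv) (by rw [Finset.card_map]; exact cs_even F i hv) ?_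
  rw [← h _ (cs_even F i hv)]
  exact F.toDec.comp_conj hg hij (cs_isC F i hv)

/-- the coordinates -/
noncomputable def co (v : G) (p : Σ i, Om i) : ZMod 2 := if p.2 ∈ cs F p.1 v then 1 else 0

theorem co_mul {v u : G} (hv : v ∈ V) (hu : u ∈ V) : co F (v * u) = co F v + co F u := by
  funext p
  rw [Pi.add_apply, co, co, co, cs_mul F p.1 hv hu]
  by_cases h1 : p.2 ∈ cs F p.1 v <;> by_cases h2 : p.2 ∈ cs F p.1 u
  · rw [if_pos h1, if_pos h2, if_neg (fun h => by
      rw [Finset.mem_symmDiff] at h; exact h.elim (fun h => h.2 h2) fun h => h.2 h1)]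
    rfl
  · rw [if_pos h1, if_neg h2, if_pos (Finset.mem_symmDiff.2 (Or.inl ⟨h1, h2⟩)), add_zero]
  · rw [if_neg h1, if_pos h2, if_pos (Finset.mem_symmDiff.2 (Or.inr ⟨h2, h1⟩)), zero_add]
  · rw [if_neg h1, if_neg h2, if_neg (fun h => by
      rw [Finset.mem_symmDiff] at h; exact h.elim (fun h => h1 h.1) fun h => h2 h.1), add_zero]

theorem co_inj {v : G} (hv : v ∈ V) (h : co F v = 0) : v = 1 := by
  refine eq_one_of_cs F hv fun i => ?_
  rw [Finset.eq_empty_iff_forall_notMem]
  intro x hx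
  have h1 := congrFun h ⟨i, x⟩
  rw [co, if_pos hx] at h1
  exact one_ne_zero h1

omit F in
theorem filt (i : I) : (Finset.univ.filter fun p : Σ i, Om i => p.1 = i) =
    (Finset.univ : Finset (Om i)).map (Function.Embedding.sigmaMk i) := by
  ext ⟨j, x⟩
  rw [Finset.mem_filter, Finset.mem_map]
  constructor
  · rintro ⟨-, h⟩
    have h' : j = i := h
    subst h'
    exact ⟨x, Finset.mem_univ _, rfl⟩
  · rintro ⟨y, -, e⟩
    refine ⟨Finset.mem_univ _, ?_⟩
    rw [← e]
    rfl

theorem co_even {v : G} (hv : v ∈ V) (i : I) :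
    ∑ p ∈ Finset.univ.filter (fun p : Σ i, Om i => p.1 = i), co F v p = 0 := by
  rw [filt, Finset.sum_map]
  have e : ∀ x ∈ (Finset.univ : Finset (Om i)), co F v (Function.Embedding.sigmaMk i x) =
      if x ∈ cs F i v then 1 else 0 := fun x _ => rfl
  rw [Finset.sum_congr rfl e, Finset.sum_ite_mem, Finset.univ_inter, Finset.sum_const, nsmul_eq_mul, mul_one]
  obtain ⟨k, hk⟩ := cs_even F i hv
  rw [hk]
  push_cast
  exact CharTwo.add_self_eq_zero _

theorem co_surj (f : (Σ i, Om i) → ZMod 2)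
    (h : ∀ i, ∑ p ∈ Finset.univ.filter (fun p : Σ i, Om i => p.1 = i), f p = 0) : ∃ v ∈ V, co F v = f := by
  have hz : ∀ a : ZMod 2, a = 0 ∨ a = 1 := by decide
  obtain ⟨v, hv, hs⟩ := exists_of_sets F (fun i => Finset.univ.filter fun x => f ⟨i, x⟩ = 1) fun i => by
    have h1 := h i
    rw [filt, Finset.sum_map] at h1
    have e : ∀ x ∈ (Finset.univ : Finset (Om i)), f (Function.Embedding.sigmaMk i x) =
        if f ⟨i, x⟩ = 1 then 1 else 0 := by
      intro x _
      rcases hz (f ⟨i, x⟩) with h2 | h2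
      · rw [h2, if_neg (by decide)]; exact h2
      · rw [h2, if_pos rfl]; exact h2
    rw [Finset.sum_congr rfl e, ← Finset.sum_filter, Finset.sum_const, nsmul_eq_mul, mul_one] at h1
    exact (ZMod.natCast_eq_zero_iff_even).1 h1
  refine ⟨v, hv, ?_⟩
  funext p
  rw [co, hs]
  rcases hz (f p) with h2 | h2
  · rw [if_neg, h2]
    intro hc
    rw [Finset.mem_filter] at hc
    rw [show f p = 1 from hc.2] at h2
    exact absurd h2 (by decide)
  · rw [if_pos, h2]
    exact Finset.mem_filter.2 ⟨Finset.mem_univ _, h2⟩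

theorem co_conj {g : G} (hg : g ∈ M) {τ : Equiv.Perm I} {σ : ∀ i, Om i ≃ Om (τ i)}
    (h1 : ∀ i, MulAut.conj g • N i = N (τ i))
    (h : ∀ i (s : Finset (Om i)), g * phi i s * g⁻¹ = phi (τ i) (s.map (σ i).toEmbedding)) {v : G} (hv : v ∈ V)
    (p : Σ i, Om i) : co F (g * v * g⁻¹) (Equiv.sigmaCongr τ σ p) = co F v p := by
  obtain ⟨i, x⟩ := p
  show (if σ i x ∈ cs F (τ i) (g * v * g⁻¹) then (1 : ZMod 2) else 0) = if x ∈ cs F i v then 1 else 0
  rw [cs_conj F hg (h1 i) (fun s _ => h i s) hv]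
  have hm : σ i x ∈ (cs F i v).map (σ i).toEmbedding ↔ x ∈ cs F i v := Finset.mem_map' _
  by_cases hx : x ∈ cs F i v
  · rw [if_pos hx]; exact if_pos (hm.2 hx)
  · rw [if_neg hx]; exact if_neg fun hc => hx (hm.1 hc)

theorem co_swap {i : I} {g : G} (hg : g ∈ E i) {a b : Om i} (hρ : Rel (phi i) g (Equiv.swap a b)) {v : G} (hv : v ∈ V)
    (p : Σ i, Om i) : co F (g * v * g⁻¹) (Equiv.swap ⟨i, a⟩ ⟨i, b⟩ p) = co F v p := by
  have hgM := F.toDec.EL i hg
  have hi : cs F i (g * v * g⁻¹) = (cs F i v).map (Equiv.swap a b).toEmbedding :=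
    cs_conj F hgM (RRed.Blk.smul_of_mem (F.toDec.EN i hg)) hρ hv
  have hj : ∀ j, j ≠ i → cs F j (g * v * g⁻¹) = cs F j v := by
    intro j hji
    have h1 : MulAut.conj g • N j = N j :=
      RRed.Blk.smul_of_mem (centralizer_le_normalizer _ (F.toDec.EC i j (Ne.symm hji) hg))
    have h2 := cs_conj F hgM h1 (σ := Equiv.refl (Om j)) (fun s hs => by
      have h3 : phi j s ∈ N j := ((F.lett j).mem _).2 ⟨s, hs, rfl⟩
      rw [RRed.Blk.cent (F.toDec.EC i j (Ne.symm hji) hg) h3]
      exact congrArg (phi j) (Finset.map_refl).symm) hv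
    rw [h2]
    exact Finset.map_refl
  obtain ⟨j, x⟩ := p
  by_cases hji : j = i
  · subst hji
    have e : Equiv.swap (⟨j, a⟩ : Σ i, Om i) ⟨j, b⟩ ⟨j, x⟩ = ⟨j, Equiv.swap a b x⟩ := by
      by_cases hxa : x = a
      · rw [hxa, Equiv.swap_apply_left, Equiv.swap_apply_left]
      · by_cases hxb : x = b
        · rw [hxb, Equiv.swap_apply_right, Equiv.swap_apply_right]
        · rw [Equiv.swap_apply_of_ne_of_ne hxa hxb, Equiv.swap_apply_of_ne_of_ne]
          · intro h; exact hxa (by simpa using h)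
          · intro h; exact hxb (by simpa using h)
    rw [e]
    show (if Equiv.swap a b x ∈ cs F j (g * v * g⁻¹) then (1 : ZMod 2) else 0) = if x ∈ cs F j v then 1 else 0
    rw [hi]
    have hm : Equiv.swap a b x ∈ (cs F j v).map (Equiv.swap a b).toEmbedding ↔ x ∈ cs F j v := Finset.mem_map' _
    by_cases hx : x ∈ cs F j v
    · rw [if_pos hx]; exact if_pos (hm.2 hx)
    · rw [if_neg hx]; exact if_neg fun hc => hx (hm.1 hc)
  · have e : Equiv.swap (⟨i, a⟩ : Σ i, Om i) ⟨i, b⟩ ⟨j, x⟩ = ⟨j, x⟩ := by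
      rw [Equiv.swap_apply_of_ne_of_ne]
      · intro h; exact hji (congrArg Sigma.fst h)
      · intro h; exact hji (congrArg Sigma.fst h)
    rw [e]
    show (if x ∈ cs F j (g * v * g⁻¹) then (1 : ZMod 2) else 0) = if x ∈ cs F j v then 1 else 0
    rw [hj j hji]

variable (Om) in
omit F [∀ i, DecidableEq (Om i)] [DecidableEq I] in
/-- the letters -/
noncomputable def fP : Fin (Fintype.card (Σ i, Om i)) ≃ Σ i, Om i := (Fintype.equivFin _).symm

variable (I) in
omit F [DecidableEq I] in
/-- the blocks -/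
noncomputable def cI : Fin (Fintype.card I) ≃ I := (Fintype.equivFin _).symm

omit F in
theorem sum_filt {A : Type*} [AddCommMonoid A] (x : Fin (Fintype.card (Σ i, Om i))) (f : (Σ i, Om i) → A) :
    ∑ y ∈ Finset.univ.filter (fun y => (cI I).symm (fP Om y).1 = (cI I).symm (fP Om x).1), f (fP Om y) =
      ∑ p ∈ Finset.univ.filter (fun p : Σ i, Om i => p.1 = (fP Om x).1), f p := by
  refine Finset.sum_equiv (fP Om) (fun y => ?_) fun y _ => rfl
  rw [Finset.mem_filter, Finset.mem_filter]
  exact ⟨fun h => ⟨Finset.mem_univ _, (cI I).symm.injective h.2⟩, fun h => ⟨Finset.mem_univ _, by rw [h.2]⟩⟩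

omit F in
theorem card_filt (x : Fin (Fintype.card (Σ i, Om i))) :
    (Finset.univ.filter (fun y => (cI I).symm (fP Om y).1 = (cI I).symm (fP Om x).1)).card =
      Fintype.card (Om (fP Om x).1) := by
  rw [Finset.card_eq_sum_ones, sum_filt x (fun _ => 1), ← Finset.card_eq_sum_ones, filt, Finset.card_map,
    Finset.card_univ]

/-- **The coordinates of `BFr.Pts`.** -/
noncomputable def ofFull : Pts M V (Fin (Fintype.card (Σ i, Om i))) (Fin (Fintype.card I)) where
  blk x := (cI I).symm (fP Om x).1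
  e v x := co F v (fP Om x)
  mul v hv u hu := by
    funext x
    rw [co_mul F hv hu]
    rfl
  inj v hv h := co_inj F hv (by
    funext p
    have := congrFun h ((fP Om).symm p)
    rwa [Equiv.apply_symm_apply] at this)
  even v hv x := by
    rw [sum_filt x (co F v)]
    exact co_even F hv _
  surj f h := by
    obtain ⟨v, hv, e⟩ := co_surj F (fun p => f ((fP Om).symm p)) fun i => by
      by_cases hi : ∃ x, (fP Om x).1 = i
      · obtain ⟨x, rfl⟩ := hi
        rw [← sum_filt x]
        have := h x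
        rw [← this]
        exact Finset.sum_congr rfl fun y _ => by rw [Equiv.symm_apply_apply]
      · refine Finset.sum_eq_zero fun p hp => ?_
        exact absurd ⟨(fP Om).symm p, by rw [Equiv.apply_symm_apply]; exact (Finset.mem_filter.1 hp).2⟩ hi
    refine ⟨v, hv, ?_⟩
    funext x
    show co F v (fP Om x) = f x
    rw [e]
    show f ((fP Om).symm (fP Om x)) = f x
    rw [Equiv.symm_apply_apply]
  odd x := by
    rw [card_filt]
    exact (F.lett _).odd
  three x := by
    rw [card_filt]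
    exact F.three _
  MV g hg v hv := (mem_normalizer_iff.1 (F.toDec.LU hg) v).1 hv
  perm g hg := by
    obtain ⟨τ, σ, h1, -, h3⟩ := F.letters g hg
    refine ⟨(fP Om).trans ((Equiv.sigmaCongr τ σ).trans (fP Om).symm), fun v hv x => ?_, fun x y hxy => ?_⟩
    · show co F (g * v * g⁻¹) (fP Om ((fP Om).symm (Equiv.sigmaCongr τ σ (fP Om x)))) = co F v (fP Om x)
      rw [Equiv.apply_symm_apply]
      exact co_conj F hg h1 h3 hv _
    · have h4 : (fP Om x).1 = (fP Om y).1 := (cI I).symm.injective hxy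
      show (cI I).symm (fP Om ((fP Om).symm (Equiv.sigmaCongr τ σ (fP Om x)))).1 =
        (cI I).symm (fP Om ((fP Om).symm (Equiv.sigmaCongr τ σ (fP Om y)))).1
      rw [Equiv.apply_symm_apply, Equiv.apply_symm_apply]
      show (cI I).symm (τ (fP Om x).1) = (cI I).symm (τ (fP Om y).1)
      rw [h4]
  full x y hne hxy := by
    have h4 : (fP Om x).1 = (fP Om y).1 := (cI I).symm.injective hxy
    obtain ⟨p, hp⟩ : ∃ p, p = fP Om x := ⟨_, rfl⟩
    obtain ⟨q, hq⟩ : ∃ q, q = fP Om y := ⟨_, rfl⟩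
    rw [← hp, ← hq] at h4
    obtain ⟨i, a⟩ := p
    obtain ⟨j, b⟩ := q
    have h5 : i = j := h4
    subst h5
    have hab : a ≠ b := by
      rintro rfl
      exact hne ((fP Om).injective (hp.symm.trans hq))
    obtain ⟨t, ht, hrel, -⟩ := F.swap i a b hab
    refine ⟨t, F.toDec.EL i ht, fun v hv z => ?_⟩
    show co F (t * v * t⁻¹) (fP Om (Equiv.swap x y z)) = co F v (fP Om z)
    have e : fP Om (Equiv.swap x y z) = Equiv.swap (fP Om x) (fP Om y) (fP Om z) := by
      by_cases hzx : z = x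
      · rw [hzx, Equiv.swap_apply_left, Equiv.swap_apply_left]
      · by_cases hzy : z = y
        · rw [hzy, Equiv.swap_apply_right, Equiv.swap_apply_right]
        · rw [Equiv.swap_apply_of_ne_of_ne hzx hzy, Equiv.swap_apply_of_ne_of_ne
            (fun h => hzx ((fP Om).injective h)) (fun h => hzy ((fP Om).injective h))]
    rw [e, ← hp, ← hq]
    exact co_swap F ht hrel hv _

theorem ofFull_blk (x) : (ofFull F).blk x = (cI I).symm (fP Om x).1 := rfl

theorem ofFull_e (v : G) (x) : (ofFull F).e v x = if (fP Om x).2 ∈ cs F (fP Om x).1 v then 1 else 0 := rfl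

/-- the permutation of the letters induced by `g ∈ M` -/
theorem ofFull_r {g : G} (hg : g ∈ M) {τ : Equiv.Perm I} {σ : ∀ i, Om i ≃ Om (τ i)}
    (h1 : ∀ i, MulAut.conj g • N i = N (τ i))
    (h : ∀ i (s : Finset (Om i)), g * phi i s * g⁻¹ = phi (τ i) (s.map (σ i).toEmbedding)) :
    (ofFull F).r g = (fP Om).trans ((Equiv.sigmaCongr τ σ).trans (fP Om).symm) := by
  refine (ofFull F).r_eq hg fun v hv x => ?_
  show co F (g * v * g⁻¹) (fP Om ((fP Om).symm (Equiv.sigmaCongr τ σ (fP Om x)))) = co F v (fP Om x)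
  rw [Equiv.apply_symm_apply]
  exact co_conj F hg h1 h hv _

/-- an element of `N i` has its coordinates in block `i` -/
theorem cs_of_mem {i j : I} (hji : j ≠ i) {v : G} (hv : v ∈ N i) : cs F j v = ∅ := by
  refine cs_eq F (F.toDec.NU i hv) (by simp) ?_
  rw [(F.lett j).phi_empty]
  exact F.toDec.comp_ne (Ne.symm hji) hv

theorem cs_phi {i : I} {s : Finset (Om i)} (hs : Even s.card) : cs F i (phi i s) = s := by
  have hm : phi i s ∈ N i := ((F.lett i).mem _).2 ⟨s, hs, rfl⟩
  exact cs_eq F (F.toDec.NU i hm) hs (F.toDec.comp_self hm)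

/-- `g ∈ M` centralises `N i` iff it fixes all letters of block `i` -/
theorem cent_iff {g : G} (hg : g ∈ M) (i : I) : g ∈ centralizer (N i : Set G) ↔
    ∀ x, (ofFull F).blk x = (cI I).symm i → (ofFull F).r g x = x := by
  obtain ⟨τ, σ, h1, -, h3⟩ := F.letters g hg
  have hr := ofFull_r F hg h1 h3
  constructor
  · intro hc x hx
    have hxi : (fP Om x).1 = i := (cI I).symm.injective hx
    subst hxi
    have hN : MulAut.conj g • N (fP Om x).1 = N (fP Om x).1 :=
      RRed.Blk.smul_of_mem (centralizer_le_normalizer _ hc)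
    have hτ : τ (fP Om x).1 = (fP Om x).1 := F.toDec.Ninj ((h1 _).symm.trans hN)
    have h3c := F.three (fP Om x).1
    -- the coordinates of pairs in block `i`
    rw [hr]
    show (fP Om).symm (Equiv.sigmaCongr τ σ (fP Om x)) = x
    rw [Equiv.symm_apply_eq]
    obtain ⟨p, hp⟩ : ∃ p, p = fP Om x := ⟨_, rfl⟩
    rw [← hp] at hc hN hτ h3c ⊢
    obtain ⟨i, a⟩ := p
    show (⟨τ i, σ i a⟩ : Σ i, Om i) = ⟨i, a⟩
    have hτ' : τ i = i := hτ
    have h3d : 3 ≤ Fintype.card (Om i) := h3c
    have key : ∀ b : Om i, b ≠ a → (⟨τ i, σ i a⟩ : Σ i, Om i) = ⟨i, a⟩ ∨ (⟨τ i, σ i a⟩ : Σ i, Om i) = ⟨i, b⟩ := by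
      intro b hb
      have hev : Even ({a, b} : Finset (Om i)).card := by rw [Finset.card_pair hb.symm]; exact even_two
      have hm : phi i {a, b} ∈ N i := ((F.lett i).mem _).2 ⟨_, hev, rfl⟩
      have e1 : g * phi i {a, b} * g⁻¹ = phi i {a, b} := RRed.Blk.cent hc hm
      have e2 := co_conj F hg h1 h3 (F.toDec.NU i hm) ⟨i, a⟩
      rw [e1] at e2
      have e3 : co F (phi i {a, b}) ⟨i, a⟩ = 1 := by
        show (if a ∈ cs F i (phi i {a, b}) then (1 : ZMod 2) else 0) = 1
        rw [cs_phi F hev, if_pos (Finset.mem_insert_self _ _)]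
      rw [e3] at e2
      have e4 : ∀ c : Om i, co F (phi i {a, b}) ⟨i, c⟩ = 1 → c = a ∨ c = b := by
        intro c hc'
        by_contra hcon
        have : co F (phi i {a, b}) ⟨i, c⟩ = 0 := by
          show (if c ∈ cs F i (phi i {a, b}) then (1 : ZMod 2) else 0) = 0
          rw [cs_phi F hev, if_neg]
          rw [Finset.mem_insert, Finset.mem_singleton]
          exact hcon
        rw [this] at hc'
        exact zero_ne_one hc'
      have e5 : ∀ q : Σ i, Om i, q.1 = i → co F (phi i {a, b}) q = 1 → q = ⟨i, a⟩ ∨ q = ⟨i, b⟩ := by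
        rintro ⟨j, c⟩ hj hq
        have hj' : j = i := hj
        subst hj'
        rcases e4 c hq with h | h
        · left; rw [h]
        · right; rw [h]
      exact e5 _ hτ' e2
    obtain ⟨b, hb⟩ : ∃ b, b ≠ a := Fintype.exists_ne_of_one_lt_card (by omega) a
    obtain ⟨c, hc'⟩ : ∃ c, c ∉ ({a, b} : Finset (Om i)) := by
      by_contra hcon
      push Not at hcon
      have h1 : (Finset.univ : Finset (Om i)) ⊆ {a, b} := fun x _ => hcon x
      have h2 := Finset.card_le_card h1
      rw [Finset.card_univ] at h2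
      have h4 : ({a, b} : Finset (Om i)).card ≤ 2 := Finset.card_le_two
      have : 3 ≤ Fintype.card (Om i) := h3c
      omega
    rw [Finset.mem_insert, Finset.mem_singleton, not_or] at hc'
    rcases key b hb with h | h
    · exact h
    · rcases key c hc'.1 with h' | h'
      · exact h'
      · rw [h] at h'
        exact absurd (eq_of_heq (Sigma.mk.inj h').2) (Ne.symm hc'.2)
  · intro hfix
    rw [mem_centralizer_iff]
    intro v hv
    have hvV := F.toDec.NU i hv
    rw [eq_comm, (ofFull F).comm_iff hg hvV]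
    intro x
    by_cases hx : (ofFull F).blk x = (cI I).symm i
    · rw [hfix x hx]
    · have h0 : ∀ y, (ofFull F).blk y ≠ (cI I).symm i → (ofFull F).e v y = 0 := by
        intro y hy
        rw [ofFull_e, cs_of_mem F (fun h => hy (by rw [ofFull_blk, h])) hv, if_neg (by simp)]
      rw [h0 x hx]
      by_cases hy : (ofFull F).blk ((ofFull F).r g x) = (cI I).symm i
      · have h5 := hfix _ hy
        have h6 : (ofFull F).r g x = x := ((ofFull F).r g).injective h5
        rw [h6, h0 x hx]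
      · rw [h0 _ hy]

end main

end Cfsg.Agent.Omega.NOThreeL.RRed.BFr
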