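import Cfsg.Agent.Omega.NOThreeL.RRed.BFr.Pts
import Cfsg.Agent.Mrg.Omega.OM.Lev.Uni
import Cfsg.Agent.Mrg.Omega.NO3S.OneLine.Abs

section


/-!
# NO-3L, box R: best offenders act as products of transpositions

`X ≥ V` elementary abelian, `A ≤ M` a best offender on `X` (`Best X A`, `ElemM X A`), a 2-group:

* `best_ineq` : `|C_A(Y)| |Y| ≤ |A| |C_Y(A)|` for `Y ≤ X`; `best_cut'` : in case of equality `C_A(Y)` is a best offender;
* `Ofd.count` : `2^|K| |C_A(K)| ≤ |A|` for suitable sets of letters;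
* `Ofd.orb_le_two`, `Ofd.blk_eq` : the orbits of `A` on the letters have length `≤ 2`, every block is fixed;
* `Ofd.exists_swap` : if `A` moves the letter `x` to `y`, then a best offender `A' ≤ A` acts as `⟨(x y)⟩`.
-/

set_option autoImplicit false
set_option linter.unusedSectionVars false

namespace Cfsg.Agent.Omega.NOThreeL.RRed.BFr

open Subgroup Cfsg
open Cfsg.Agent.Omega.SQ1.Bau (mem_sup_comm card_sup_comm elem_comm elem_sq)
open Cfsg.Agent.Omega.OM.Lev.Uni (Best)
open Cfsg.Agent.Omega.FFThm (ElemM)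

universe u

variable {G : Type u} [Group G]

section best

variable [Finite G] {X Y A : Subgroup G}

theorem best_ineq (hX : ∀ x ∈ X, ∀ y ∈ X, x * y = y * x) (hb : Best X A) (hY : Y ≤ X) :
    Nat.card ↥(A ⊓ centralizer (Y : Set G)) * Nat.card Y ≤ Nat.card A * Nat.card ↥(Y ⊓ centralizer (A : Set G)) := by
  set F := A ⊓ centralizer (Y : Set G) with hF
  have h1 := hb F (inf_le_inf_left _ (centralizer_le hY)) inf_le_left
  have h2 := card_sup_comm (A := Y) (B := X ⊓ centralizer (A : Set G)) fun a ha b hb => hX a (hY ha) b hb.1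
  have h3 : Y ⊓ (X ⊓ centralizer (A : Set G)) = Y ⊓ centralizer (A : Set G) := by
    rw [← inf_assoc, inf_eq_left.2 hY]
  rw [h3] at h2
  have h4 : Y ⊔ (X ⊓ centralizer (A : Set G)) ≤ X ⊓ centralizer (F : Set G) := by
    refine sup_le (le_inf hY fun u hu => mem_centralizer_iff.2 fun a ha => ?_) ?_
    · exact (mem_centralizer_iff.1 ha.2 u hu).symm
    · exact inf_le_inf_left _ (centralizer_le inf_le_left)
  have h5 := Subgroup.card_le_of_le h4
  have hp : 0 < Nat.card ↥(X ⊓ centralizer (A : Set G)) := Nat.card_pos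
  refine Nat.le_of_mul_le_mul_right ?_ hp
  calc Nat.card F * Nat.card Y * Nat.card ↥(X ⊓ centralizer (A : Set G))
      = Nat.card F * Nat.card ↥(Y ⊔ (X ⊓ centralizer (A : Set G)) : Subgroup G) *
          Nat.card ↥(Y ⊓ centralizer (A : Set G)) := by rw [mul_assoc, ← h2]; ring
    _ ≤ Nat.card F * Nat.card ↥(X ⊓ centralizer (F : Set G)) * Nat.card ↥(Y ⊓ centralizer (A : Set G)) :=
        Nat.mul_le_mul_right _ (Nat.mul_le_mul_left _ h5)
    _ ≤ Nat.card A * Nat.card ↥(X ⊓ centralizer (A : Set G)) * Nat.card ↥(Y ⊓ centralizer (A : Set G)) :=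
        Nat.mul_le_mul_right _ h1
    _ = _ := by ring

theorem best_cut_eq (hX : ∀ x ∈ X, ∀ y ∈ X, x * y = y * x) (hY : Y ≤ X)
    (he : Nat.card A * Nat.card ↥(Y ⊓ centralizer (A : Set G)) ≤
      Nat.card ↥(A ⊓ centralizer (Y : Set G)) * Nat.card Y) :
    Nat.card A * Nat.card ↥(X ⊓ centralizer (A : Set G)) ≤
      Nat.card ↥(A ⊓ centralizer (Y : Set G)) * Nat.card ↥(X ⊓ centralizer ((A ⊓ centralizer (Y : Set G) : Subgroup G) : Set G)) := by
  set F := A ⊓ centralizer (Y : Set G) with hF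
  have h4 := card_sup_comm (A := Y) (B := X ⊓ centralizer (A : Set G)) fun a ha b hb => hX a (hY ha) b hb.1
  have h5 : Y ⊓ (X ⊓ centralizer (A : Set G)) = Y ⊓ centralizer (A : Set G) := by
    rw [← inf_assoc, inf_eq_left.2 hY]
  rw [h5] at h4
  have h6 : Y ⊔ (X ⊓ centralizer (A : Set G)) ≤ X ⊓ centralizer (F : Set G) := by
    refine sup_le (le_inf hY fun u hu => mem_centralizer_iff.2 fun a ha => ?_) ?_
    · exact (mem_centralizer_iff.1 ha.2 u hu).symm
    · exact inf_le_inf_left _ (centralizer_le inf_le_left)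
  have h7 := Subgroup.card_le_of_le h6
  have hp : 0 < Nat.card ↥(Y ⊓ centralizer (A : Set G)) := Nat.card_pos
  refine Nat.le_of_mul_le_mul_right ?_ hp
  calc Nat.card A * Nat.card ↥(X ⊓ centralizer (A : Set G)) * Nat.card ↥(Y ⊓ centralizer (A : Set G))
      = Nat.card A * Nat.card ↥(Y ⊓ centralizer (A : Set G)) * Nat.card ↥(X ⊓ centralizer (A : Set G)) := by ring
    _ ≤ Nat.card F * Nat.card Y * Nat.card ↥(X ⊓ centralizer (A : Set G)) := Nat.mul_le_mul_right _ he
    _ = Nat.card F * Nat.card ↥(Y ⊔ (X ⊓ centralizer (A : Set G)) : Subgroup G) *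
          Nat.card ↥(Y ⊓ centralizer (A : Set G)) := by rw [mul_assoc, ← h4]; ring
    _ ≤ _ := Nat.mul_le_mul_right _ (Nat.mul_le_mul_left _ h7)

theorem best_cut' (hX : ∀ x ∈ X, ∀ y ∈ X, x * y = y * x) (hb : Best X A) (hY : Y ≤ X)
    (he : Nat.card A * Nat.card ↥(Y ⊓ centralizer (A : Set G)) ≤
      Nat.card ↥(A ⊓ centralizer (Y : Set G)) * Nat.card Y) : Best X (A ⊓ centralizer (Y : Set G)) := by
  intro F' h1 h2
  have h3 : A ⊓ centralizer (X : Set G) ≤ F' := by
    refine le_trans (le_inf (le_inf inf_le_left (inf_le_right.trans (centralizer_le hY))) inf_le_right) h1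
  exact (hb F' h3 (h2.trans inf_le_left)).trans (best_cut_eq hX hY he)

end best

/-- A best offender on `X`. -/
structure Ofd (M X A : Subgroup G) : Prop where
  AM : A ≤ M
  p : IsPGroup 2 A
  el : ElemM X A
  best : Best X A

namespace Ofd

variable {M V : Subgroup G} {Pt I : Type} [Fintype Pt] [DecidableEq Pt] [DecidableEq I] (D : Pts M V Pt I)
variable {X A : Subgroup G}

open Pts

/-- the functions supported on `K` -/
noncomputable def YK (K : Finset Pt) : Subgroup G where
  carrier := {g | ∃ f : Pt → ZMod 2, (∀ y, y ∉ K → f y = 0) ∧ g = D.w f}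
  mul_mem' := by
    rintro a b ⟨f, hf, rfl⟩ ⟨g, hg, rfl⟩
    exact ⟨f + g, fun y hy => by rw [Pi.add_apply, hf y hy, hg y hy, add_zero], (D.w_add f g).symm⟩
  one_mem' := ⟨0, fun _ _ => rfl, D.w_zero.symm⟩
  inv_mem' := by
    rintro a ⟨f, hf, rfl⟩
    exact ⟨f, hf, D.w_inv f⟩

theorem YK_le (K : Finset Pt) : YK D K ≤ V := by
  rintro _ ⟨f, -, rfl⟩
  exact D.w_mem f

theorem card_YK [Finite G] {K : Finset Pt} (hK : ∀ z, ∃ y, D.blk y = D.blk z ∧ y ∉ K) : 2 ^ K.card ≤ Nat.card (YK D K) := by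
  have e : Nat.card (K → ZMod 2) = 2 ^ K.card := by
    rw [Nat.card_fun, Nat.card_zmod, Nat.card_eq_fintype_card, Fintype.card_coe]
  rw [← e]
  refine Nat.card_le_card_of_injective (fun f : K → ZMod 2 =>
    (⟨D.w (fun x => if h : x ∈ K then f ⟨x, h⟩ else 0), _, fun y hy => dif_neg hy, rfl⟩ : YK D K)) ?_
  intro f g hfg
  have h1 : D.w (fun x => if h : x ∈ K then f ⟨x, h⟩ else 0) = D.w (fun x => if h : x ∈ K then g ⟨x, h⟩ else 0) :=
    congrArg Subtype.val hfg
  have h2 := D.w_inj (fun x => by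
    obtain ⟨y, hy, hyK⟩ := hK x
    exact ⟨y, hy, dif_neg hyK, dif_neg hyK⟩) h1
  funext x
  have h3 := congrFun h2 x.1
  simp only [x.2, dif_pos] at h3
  exact h3

variable (h : Ofd M X A) (hVX : V ≤ X)
include h hVX

theorem r_comm {a b : G} (ha : a ∈ A) (hb : b ∈ A) (x : Pt) : D.r a (D.r b x) = D.r b (D.r a x) := by
  have haM := h.AM ha
  have hbM := h.AM hb
  have h1 : D.r (a * b * a⁻¹ * b⁻¹) = 1 := by
    rw [D.r_eq_one_iff (mul_mem (mul_mem (mul_mem haM hbM) (inv_mem haM)) (inv_mem hbM))]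
    exact fun v hv => (mem_centralizer_iff.1 (h.el.comm a ha b hb) v (hVX hv)).symm
  rw [D.r_mul (mul_mem (mul_mem haM hbM) (inv_mem haM)) (inv_mem hbM), D.r_mul (mul_mem haM hbM) (inv_mem haM),
    D.r_mul haM hbM, D.r_inv haM, D.r_inv hbM] at h1
  have h2 : D.r a * D.r b = D.r b * D.r a := by
    calc D.r a * D.r b = (D.r a * D.r b * (D.r a)⁻¹ * (D.r b)⁻¹) * (D.r b * D.r a) := by group
      _ = _ := by rw [h1, one_mul]
  exact congrArg (fun σ : Equiv.Perm Pt => σ x) h2

theorem r_sq {a : G} (ha : a ∈ A) (x : Pt) : D.r a (D.r a x) = x := by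
  have haM := h.AM ha
  have h1 : D.r (a * a) = 1 := by
    rw [D.r_eq_one_iff (mul_mem haM haM)]
    intro v hv
    have h2 := mem_centralizer_iff.1 (h.el.sq a ha) v (hVX hv)
    rw [pow_two] at h2
    exact h2.symm
  rw [D.r_mul haM haM] at h1
  exact congrArg (fun σ : Equiv.Perm Pt => σ x) h1

theorem sub {A' : Subgroup G} (hA : A' ≤ A) (hb : Best X A') : Ofd M X A' where
  AM := hA.trans h.AM
  p := h.p.to_le hA
  el := ⟨fun a ha => h.el.sq a (hA ha), fun a ha b hb => h.el.comm a (hA ha) b (hA hb)⟩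
  best := hb

omit hVX in
/-- every block contains a letter fixed by its stabilizer -/
theorem exists_fix [Finite G] (x : Pt) : ∃ y, D.blk y = D.blk x ∧ ∀ a ∈ A, D.blk (D.r a y) = D.blk y → D.r a y = y := by
  classical
  -- the stabilizer of the block
  let N : Subgroup G :=
    { carrier := {a | a ∈ A ∧ D.blk (D.r a x) = D.blk x}
      mul_mem' := by
        rintro a b ⟨ha, ha'⟩ ⟨hb, hb'⟩
        refine ⟨mul_mem ha hb, ?_⟩
        rw [D.r_mul (h.AM ha) (h.AM hb), Equiv.Perm.mul_apply, D.r_blk (h.AM ha) hb', ha']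
      one_mem' := ⟨one_mem _, by rw [D.r_one]; rfl⟩
      inv_mem' := by
        rintro a ⟨ha, ha'⟩
        refine ⟨inv_mem ha, ?_⟩
        have h1 := D.r_blk (inv_mem (h.AM ha)) ha'
        rw [D.r_inv (h.AM ha)] at h1 ⊢
        simpa using h1.symm }
  have hNA : N ≤ A := fun a ha => ha.1
  have hNp : IsPGroup 2 N := h.p.to_le hNA
  let Om := {y : Pt // D.blk y = D.blk x}
  have hst : ∀ g : N, ∀ y : Om, D.blk (D.r g y.1) = D.blk x := fun g y => by
    rw [D.r_blk (h.AM (hNA g.2)) y.2, g.2.2]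
  let _ : MulAction N Om :=
    { smul := fun g y => ⟨D.r g y.1, hst g y⟩
      one_smul := fun y => Subtype.ext (by show D.r ((1 : N) : G) y.1 = y.1; rw [Subgroup.coe_one, D.r_one]; rfl)
      mul_smul := fun g g' y => Subtype.ext (by
        show D.r ((g * g' : N) : G) y.1 = D.r g (D.r g' y.1)
        rw [Subgroup.coe_mul, D.r_mul (h.AM (hNA g.2)) (h.AM (hNA g'.2)), Equiv.Perm.mul_apply]) }
  have hcard : ¬ 2 ∣ Nat.card Om := by
    have e : Nat.card Om = (Finset.univ.filter (fun y => D.blk y = D.blk x)).card := by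
      rw [Nat.card_eq_fintype_card, Fintype.card_subtype]
    rw [e]
    have h1 := D.odd x
    rw [← Nat.not_even_iff_odd, even_iff_two_dvd] at h1
    exact h1
  have : Fact (Nat.Prime 2) := ⟨Nat.prime_two⟩
  obtain ⟨y, hy⟩ := hNp.nonempty_fixed_point_of_prime_not_dvd_card Om hcard
  refine ⟨y.1, y.2, fun a ha hab => ?_⟩
  have haN : a ∈ N := by
    refine ⟨ha, ?_⟩
    have h1 := D.r_blk (h.AM ha) y.2
    rw [← h1, hab, y.2]
  have h1 := hy (⟨a, haN⟩ : N)
  exact congrArg Subtype.val h1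

/-- the orbit of `x` -/
noncomputable def orb (D : Pts M V Pt I) (A : Subgroup G) (x : Pt) : Finset Pt := by
  classical exact Finset.univ.filter fun y => ∃ a ∈ A, D.r a x = y

omit h hVX in
theorem mem_orb {x y : Pt} : y ∈ orb D A x ↔ ∃ a ∈ A, D.r a x = y := by
  classical
  unfold orb
  rw [Finset.mem_filter]
  exact ⟨fun h => h.2, fun h => ⟨Finset.mem_univ _, h⟩⟩

omit h hVX in
theorem self_mem_orb (x : Pt) : x ∈ orb D A x := (mem_orb D).2 ⟨1, one_mem _, by rw [D.r_one]; rfl⟩

omit hVX in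
theorem orb_closed {x y a : _} (ha : a ∈ A) (hy : y ∈ orb D A x) : D.r a y ∈ orb D A x := by
  obtain ⟨b, hb, rfl⟩ := (mem_orb D).1 hy
  exact (mem_orb D).2 ⟨a * b, mul_mem ha hb, by rw [D.r_mul (h.AM ha) (h.AM hb)]; rfl⟩

omit hVX in
theorem orb_closed' {x y a : _} (ha : a ∈ A) (hy : D.r a y ∈ orb D A x) : y ∈ orb D A x := by
  have h1 := orb_closed D h (inv_mem ha) hy
  rw [D.r_inv (h.AM ha)] at h1
  simpa using h1

omit hVX in
/-- `|A| ≤ |orbit| |F|` if `F` contains the stabilizer -/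
theorem card_le_orb [Finite G] (x : Pt) (F : Subgroup G) (hF : ∀ a ∈ A, D.r a x = x → a ∈ F) :
    Nat.card A ≤ (orb D A x).card * Nat.card F := by
  classical
  have e : Nat.card (orb D A x) = (orb D A x).card := by
    rw [Nat.card_eq_fintype_card, Fintype.card_coe]
  rw [← e, ← Nat.card_prod]
  choose s hs hs' using fun y : orb D A x => (mem_orb D).1 y.2
  refine Nat.card_le_card_of_injective (fun a : A =>
    ((⟨D.r a x, (mem_orb D).2 ⟨a, a.2, rfl⟩⟩ : orb D A x),
      (⟨(s ⟨D.r a x, (mem_orb D).2 ⟨a, a.2, rfl⟩⟩)⁻¹ * a, hF _ (mul_mem (inv_mem (hs _)) a.2) (by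
        rw [D.r_mul (inv_mem (h.AM (hs _))) (h.AM a.2), D.r_inv (h.AM (hs _)), Equiv.Perm.mul_apply,
          Equiv.Perm.inv_eq_iff_eq]
        exact (hs' ⟨D.r a x, (mem_orb D).2 ⟨a, a.2, rfl⟩⟩).symm)⟩ : F))) ?_
  intro a b hab
  simp only [Prod.mk.injEq, Subtype.mk.injEq] at hab
  obtain ⟨h1, h2⟩ := hab
  have h3 : s ⟨D.r a x, (mem_orb D).2 ⟨a, a.2, rfl⟩⟩ = s ⟨D.r b x, (mem_orb D).2 ⟨b, b.2, rfl⟩⟩ := by
    congr 1; exact Subtype.ext h1
  rw [h3] at h2
  exact Subtype.ext (mul_left_cancel h2)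

/-- **The count.** -/
theorem count [Finite G] (hX : ∀ x ∈ X, ∀ y ∈ X, x * y = y * x) (K : Finset Pt)
    (h1 : ∀ z, ∃ y, D.blk y = D.blk z ∧ ∀ a ∈ A, D.r a y ∉ K) (h2 : ∀ k ∈ K, ∃ a ∈ A, D.r a k ∉ K)
    (F : Subgroup G) (hFA : F ≤ A) (hF : ∀ a ∈ F, ∀ k ∈ K, D.r a k = k) : 2 ^ K.card * Nat.card F ≤ Nat.card A := by
  have c1 : 2 ^ K.card ≤ Nat.card (YK D K) := card_YK D fun z => by
    obtain ⟨y, hy, hyK⟩ := h1 z
    refine ⟨y, hy, ?_⟩
    have := hyK 1 (one_mem _)
    rwa [D.r_one] at this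
  have c2 : YK D K ⊓ centralizer (A : Set G) = ⊥ := by
    rw [eq_bot_iff]
    rintro _ ⟨⟨f, hf, rfl⟩, hc⟩
    rw [mem_bot]
    have h3 : ∀ a ∈ A, ∀ x, f ((D.r a)⁻¹ x) = f x := by
      intro a ha
      have e1 : a * D.w f * a⁻¹ = D.w f := by
        rw [mem_centralizer_iff.1 hc a ha]; group
      rw [D.conj_w (h.AM ha)] at e1
      have e2 := D.w_inj (fun x => by
        obtain ⟨y, hy, hyK⟩ := h1 x
        refine ⟨y, hy, hf _ ?_, hf _ ?_⟩
        · have := hyK a⁻¹ (inv_mem ha)
          rwa [D.r_inv (h.AM ha)] at this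
        · have := hyK 1 (one_mem _)
          rwa [D.r_one] at this) e1
      exact fun x => congrFun e2 x
    have h4 : f = 0 := by
      funext x
      by_cases hx : x ∈ K
      · obtain ⟨a, ha, hak⟩ := h2 x hx
        have h5 := h3 a ha (D.r a x)
        rw [show (D.r a)⁻¹ (D.r a x) = x by simp, hf _ hak] at h5
        exact h5
      · exact hf x hx
    rw [h4, D.w_zero]
  have c3 := best_ineq hX h.best ((YK_le D K).trans hVX)
  rw [c2, Subgroup.card_bot, mul_one] at c3
  have c4 : F ≤ A ⊓ centralizer (YK D K : Set G) := by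
    refine le_inf hFA fun a ha => mem_centralizer_iff.2 ?_
    rintro _ ⟨f, hf, rfl⟩
    have haM := h.AM (hFA ha)
    have e1 : a * D.w f * a⁻¹ = D.w f := by
      rw [D.conj_w haM]
      congr 1
      funext x
      by_cases hx : x ∈ K
      · have h5 : (D.r a)⁻¹ x = x := by rw [Equiv.Perm.inv_eq_iff_eq]; exact (hF a ha x hx).symm
        rw [h5]
      · by_cases hx' : (D.r a)⁻¹ x ∈ K
        · have h5 := hF a ha _ hx'
          rw [apply_inv_self'] at h5
          rw [← h5] at hx'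
          exact absurd hx' hx
        · rw [hf _ hx', hf _ hx]
    calc D.w f * a = (a * D.w f * a⁻¹) * a := by rw [e1]
      _ = a * D.w f := by group
  have c5 := Subgroup.card_le_of_le c4
  calc 2 ^ K.card * Nat.card F ≤ Nat.card (YK D K) * Nat.card ↥(A ⊓ centralizer (YK D K : Set G)) :=
        Nat.mul_le_mul c1 c5
    _ ≤ _ := by rw [mul_comm]; exact c3

/-- the stabilizer of a letter -/
noncomputable def St (D : Pts M V Pt I) (h : Ofd M X A) (x : Pt) : Subgroup G where
  carrier := {a | a ∈ A ∧ D.r a x = x}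
  mul_mem' := by
    rintro a b ⟨ha, ha'⟩ ⟨hb, hb'⟩
    exact ⟨mul_mem ha hb, by rw [D.r_mul (h.AM ha) (h.AM hb), Equiv.Perm.mul_apply, hb', ha']⟩
  one_mem' := ⟨one_mem _, by rw [D.r_one]; rfl⟩
  inv_mem' := by
    rintro a ⟨ha, ha'⟩
    refine ⟨inv_mem ha, ?_⟩
    rw [D.r_inv (h.AM ha), Equiv.Perm.inv_eq_iff_eq]
    exact ha'.symm

/-- **The orbits have length `≤ 2`.** -/
theorem orb_le_two [Finite G] (hX : ∀ x ∈ X, ∀ y ∈ X, x * y = y * x) (x : Pt) : (orb D A x).card ≤ 2 := by
  classical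
  -- an orbit contains no block
  have hnb : ∀ z, ∃ y, D.blk y = D.blk z ∧ y ∉ orb D A x := by
    intro z
    by_contra hcon
    push Not at hcon
    obtain ⟨y, hy, hfix⟩ := exists_fix D h z
    obtain ⟨z', hz', hzy, -⟩ := D.exists_third y y
    obtain ⟨a, ha, ha'⟩ := (mem_orb D).1 (hcon y hy)
    obtain ⟨b, hb, hb'⟩ := (mem_orb D).1 (hcon z' (hz'.trans hy))
    have h1 : D.r (b * a⁻¹) y = z' := by
      rw [D.r_mul (h.AM hb) (inv_mem (h.AM ha)), D.r_inv (h.AM ha), Equiv.Perm.mul_apply, ← ha']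
      simpa using hb'
    have h2 := hfix (b * a⁻¹) (mul_mem hb (inv_mem ha)) (by rw [h1, hz'])
    exact hzy (h1.symm.trans h2)
  set K := (orb D A x).erase x with hK
  have hc := count D h hVX hX K (fun z => by
    obtain ⟨y, hy, hyo⟩ := hnb z
    exact ⟨y, hy, fun a ha hak => hyo (orb_closed' D h ha (Finset.mem_of_mem_erase hak))⟩)
    (fun k hk => by
      obtain ⟨a, ha, hak⟩ := (mem_orb D).1 (Finset.mem_of_mem_erase hk)
      refine ⟨a⁻¹, inv_mem ha, ?_⟩
      rw [← hak, D.r_inv (h.AM ha)]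
      simp [hK]) (St D h x) (fun a ha => ha.1) (fun a ha k hk => by
      obtain ⟨b, hb, hbk⟩ := (mem_orb D).1 (Finset.mem_of_mem_erase hk)
      rw [← hbk, r_comm D h hVX ha.1 hb, ha.2])
  have hc2 := card_le_orb D h x (St D h x) (fun a ha hax => ⟨ha, hax⟩)
  have hp : 0 < Nat.card (St D h x) := Nat.card_pos
  have hc3 : 2 ^ K.card ≤ (orb D A x).card :=
    Nat.le_of_mul_le_mul_right (hc.trans hc2) hp
  have hc4 : K.card + 1 = (orb D A x).card := Finset.card_erase_add_one (self_mem_orb D x)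
  have hc5 : K.card < 2 ^ K.card := Nat.lt_two_pow_self
  by_contra hcon
  have h6 : 2 ≤ K.card := by omega
  have h7 : K.card + 1 < 2 ^ K.card := by
    obtain ⟨n, hn⟩ : ∃ n, K.card = n + 2 := ⟨K.card - 2, by omega⟩
    rw [hn]
    have : n + 2 < 2 ^ (n + 1) * 2 := by
      have := Nat.lt_two_pow_self (n := n + 1)
      omega
    have h8 : 2 ^ (n + 2) = 2 ^ (n + 1) * 2 := by ring
    have := Nat.lt_two_pow_self (n := n + 1)
    omega
  omega

/-- if `a ∈ A` moves `x`, then the orbit of `x` is `{x, a x}` -/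
theorem r_cases [Finite G] (hX : ∀ x ∈ X, ∀ y ∈ X, x * y = y * x) {x : Pt} {a b : G} (ha : a ∈ A) (hax : D.r a x ≠ x)
    (hb : b ∈ A) : D.r b x = x ∨ D.r b x = D.r a x := by
  classical
  by_contra hcon
  push Not at hcon
  have h1 : ({x, D.r a x, D.r b x} : Finset Pt) ⊆ orb D A x := by
    intro y hy
    simp only [Finset.mem_insert, Finset.mem_singleton] at hy
    rcases hy with rfl | rfl | rfl
    · exact self_mem_orb D _
    · exact (mem_orb D).2 ⟨a, ha, rfl⟩
    · exact (mem_orb D).2 ⟨b, hb, rfl⟩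
  have h2 := Finset.card_le_card h1
  have h3 : ({x, D.r a x, D.r b x} : Finset Pt).card = 3 := by
    rw [Finset.card_eq_three]
    exact ⟨x, D.r a x, D.r b x, hax.symm, hcon.1.symm, hcon.2.symm, rfl⟩
  have h4 := orb_le_two D h hVX hX x
  omega

/-- **`A` fixes every block.** -/
theorem blk_eq [Finite G] (hX : ∀ x ∈ X, ∀ y ∈ X, x * y = y * x) {a : G} (ha : a ∈ A) (x : Pt) :
    D.blk (D.r a x) = D.blk x := by
  classical
  by_contra hne
  obtain ⟨x', hx', hxx', -⟩ := D.exists_third x x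
  have hax : D.r a x ≠ x := fun e => hne (by rw [e])
  have hbx' : D.blk (D.r a x') = D.blk (D.r a x) := D.r_blk (h.AM ha) hx'
  have hax' : D.r a x' ≠ x' := fun e => hne (by rw [← hbx', e, hx'])
  -- the stabilizer of `x` fixes `x'`
  have hst : ∀ b ∈ A, D.r b x = x → D.r b x' = x' := by
    intro b hb hbx
    rcases r_cases D h hVX hX ha hax' hb with h1 | h1
    · exact h1
    · exfalso
      apply hne
      have h2 := D.r_blk (h.AM hb) hx'
      rw [h1, hbx, hbx'] at h2
      exact h2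
  have hc := count D h hVX hX {x, x'} (fun z => by
    -- a letter of the block of `z` not in the orbits of `x`, `x'`
    obtain ⟨y, hy, hy1, hy2⟩ : ∃ y, D.blk y = D.blk z ∧ y ∉ orb D A x ∧ y ∉ orb D A x' := by
      have hox : ∀ y, y ∈ orb D A x → y = x ∨ y = D.r a x := fun y hy => by
        obtain ⟨b, hb, rfl⟩ := (mem_orb D).1 hy
        exact r_cases D h hVX hX ha hax hb
      have hox' : ∀ y, y ∈ orb D A x' → y = x' ∨ y = D.r a x' := fun y hy => by
        obtain ⟨b, hb, rfl⟩ := (mem_orb D).1 hy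
        exact r_cases D h hVX hX ha hax' hb
      by_cases hz : D.blk z = D.blk x
      · obtain ⟨y, hy, hyx, hyx'⟩ := D.exists_third x x'
        refine ⟨y, hy.trans hz.symm, fun hyo => ?_, fun hyo => ?_⟩
        · rcases hox y hyo with e | e
          · exact hyx e
          · exact hne (by rw [← e, hy])
        · rcases hox' y hyo with e | e
          · exact hyx' e
          · exact hne (by rw [← hbx', ← e, hy])
      · by_cases hz2 : D.blk z = D.blk (D.r a x)
        · obtain ⟨y, hy, hyx, hyx'⟩ := D.exists_third (D.r a x) (D.r a x')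
          refine ⟨y, hy.trans hz2.symm, fun hyo => ?_, fun hyo => ?_⟩
          · rcases hox y hyo with e | e
            · exact hne (by rw [← hy, e])
            · exact hyx e
          · rcases hox' y hyo with e | e
            · exact hne (by rw [← hy, e, hx'])
            · exact hyx' e
        · refine ⟨z, rfl, fun hyo => ?_, fun hyo => ?_⟩
          · rcases hox z hyo with e | e
            · exact hz (by rw [e])
            · exact hz2 (by rw [e])
          · rcases hox' z hyo with e | e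
            · exact hz (by rw [e, hx'])
            · exact hz2 (by rw [e, hbx'])
    refine ⟨y, hy, fun b hb hbk => ?_⟩
    simp only [Finset.mem_insert, Finset.mem_singleton] at hbk
    rcases hbk with e | e
    · exact hy1 (orb_closed' D h hb (by rw [e]; exact self_mem_orb D _))
    · exact hy2 (orb_closed' D h hb (by rw [e]; exact self_mem_orb D _)))
    (fun k hk => by
      refine ⟨a, ha, ?_⟩
      simp only [Finset.mem_insert, Finset.mem_singleton] at hk ⊢
      rintro (e | e)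
      · rcases hk with rfl | rfl
        · exact hax e
        · exact hne (by rw [← hbx', e])
      · rcases hk with rfl | rfl
        · exact hne (by rw [e, hx'])
        · exact hax' e) (St D h x) (fun a ha => ha.1) (fun b hb k hk => by
      simp only [Finset.mem_insert, Finset.mem_singleton] at hk
      rcases hk with rfl | rfl
      · exact hb.2
      · exact hst b hb.1 hb.2)
  have hc2 := card_le_orb D h x (St D h x) (fun a ha hax => ⟨ha, hax⟩)
  have hp : 0 < Nat.card (St D h x) := Nat.card_pos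
  have hcc : ({x, x'} : Finset Pt).card = 2 := Finset.card_pair hxx'.symm
  rw [hcc] at hc
  have hc3 : 2 ^ 2 ≤ (orb D A x).card := Nat.le_of_mul_le_mul_right (hc.trans hc2) hp
  have hc4 := orb_le_two D h hVX hX x
  omega

/-- every block contains a letter fixed by `A` -/
theorem exists_fixed [Finite G] (hX : ∀ x ∈ X, ∀ y ∈ X, x * y = y * x) (x : Pt) :
    ∃ y, D.blk y = D.blk x ∧ ∀ a ∈ A, D.r a y = y := by
  obtain ⟨y, hy, hf⟩ := exists_fix D h x
  exact ⟨y, hy, fun a ha => hf a ha (blk_eq D h hVX hX ha y)⟩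

/-- **A best offender acting as one transposition.** -/
theorem exists_swap [Finite G] (hX : ∀ x ∈ X, ∀ y ∈ X, x * y = y * x) {x y a : _} (ha : a ∈ A) (hax : D.r a x = y)
    (hxy : x ≠ y) : ∃ A', A' ≤ A ∧ Ofd M X A' ∧ (∃ a' ∈ A', D.r a' = Equiv.swap x y) ∧
      (∀ a' ∈ A', D.r a' = 1 ∨ D.r a' = Equiv.swap x y) ∧ A ⊓ centralizer (X : Set G) ≤ A' ∧
      Nat.card A * Nat.card ↥(X ⊓ centralizer (A : Set G)) ≤ Nat.card A' * Nat.card ↥(X ⊓ centralizer (A' : Set G)) := by
  classical
  obtain ⟨A', hA', hmin⟩ := Set.exists_min_image {A' : Subgroup G | A' ≤ A ∧ Ofd M X A' ∧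
      A ⊓ centralizer (X : Set G) ≤ A' ∧
      Nat.card A * Nat.card ↥(X ⊓ centralizer (A : Set G)) ≤ Nat.card A' * Nat.card ↥(X ⊓ centralizer (A' : Set G)) ∧
      ∃ a' ∈ A', D.r a' x = y}
    (fun A' => Nat.card A') (Set.toFinite _) ⟨A, le_rfl, h, inf_le_left, le_rfl, a, ha, hax⟩
  obtain ⟨hle, hof, hXle, hcle, a', ha', hax'⟩ := hA'
  have hax'' : D.r a' x ≠ x := by rw [hax']; exact hxy.symm
  have hyx' : D.r a' y = x := by rw [← hax', r_sq D hof hVX ha']
  -- every other letter is fixed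
  have hoth : ∀ z, z ≠ x → z ≠ y → ∀ b ∈ A', D.r b z = z := by
    intro z hzx hzy
    by_contra hcon
    push Not at hcon
    obtain ⟨b, hb, hbz⟩ := hcon
    -- `F = Stab(z)`
    set Y := YK D {z} with hY
    have hYF : ∀ c ∈ A' ⊓ centralizer (Y : Set G), D.r c z = z := by
      intro c hc
      have h1 : D.w (Pi.single z 1) ∈ Y := ⟨Pi.single z 1, fun u hu => by
        rw [Pi.single_apply, if_neg]; simpa using hu, rfl⟩
      have h2 := mem_centralizer_iff.1 hc.2 _ h1
      have e1 : c * D.w (Pi.single z 1) * c⁻¹ = D.w (Pi.single z 1) := by rw [← h2]; group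
      rw [D.conj_w (hof.AM hc.1)] at e1
      have e2 := D.w_inj (fun u => by
        obtain ⟨v, hv, hv1, hv2⟩ := D.exists_third u z
        obtain ⟨t, ht, ht1, ht2⟩ : ∃ t, D.blk t = D.blk u ∧ t ≠ z ∧ t ≠ D.r c z := by
          by_cases hu : u = z
          · subst hu; exact D.exists_third u _
          · by_cases hu2 : u = D.r c z
            · subst hu2
              obtain ⟨t, ht, h1, h2⟩ := D.exists_third (D.r c z) z
              exact ⟨t, ht, h2, h1⟩
            · exact ⟨u, rfl, hu, hu2⟩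
        refine ⟨t, ht, ?_, ?_⟩
        · rw [Pi.single_eq_of_ne]
          intro e
          apply ht2
          rw [← e, apply_inv_self']
        · exact Pi.single_eq_of_ne ht1 _) e1
      have e3 := congrFun e2 z
      rw [Pi.single_eq_same] at e3
      by_contra hne
      rw [Pi.single_eq_of_ne] at e3
      · exact absurd e3 (by decide)
      · intro e
        apply hne
        rw [Equiv.Perm.inv_eq_iff_eq] at e
        exact e.symm
    have hFY : ∀ c ∈ A', D.r c z = z → c ∈ A' ⊓ centralizer (Y : Set G) := by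
      intro c hc hcz
      refine ⟨hc, mem_centralizer_iff.2 ?_⟩
      rintro _ ⟨f, hf, rfl⟩
      have e1 : c * D.w f * c⁻¹ = D.w f := by
        rw [D.conj_w (hof.AM hc)]
        congr 1
        funext u
        by_cases hu : u = z
        · subst hu
          have : (D.r c)⁻¹ u = u := by rw [Equiv.Perm.inv_eq_iff_eq]; exact hcz.symm
          rw [this]
        · rw [hf u (by simpa using hu), hf]
          simp only [Finset.mem_singleton]
          intro e
          apply hu
          rw [Equiv.Perm.inv_eq_iff_eq, hcz] at e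
          exact e
      calc D.w f * c = (c * D.w f * c⁻¹) * c := by rw [e1]
        _ = c * D.w f := by group
    set F := A' ⊓ centralizer (Y : Set G) with hF
    have hcF := card_le_orb D hof z F hFY
    have ho2 := orb_le_two D hof hVX hX z
    have hcF2 : Nat.card A' ≤ 2 * Nat.card F := hcF.trans (Nat.mul_le_mul_right _ ho2)
    -- `|C_Y(A')| = 1`, `|Y| ≥ 2`
    have hcY : 2 ≤ Nat.card Y := by
      have := card_YK D (K := {z}) fun u => by
        obtain ⟨v, hv, -, hv2⟩ := D.exists_third u z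
        exact ⟨v, hv, by simpa using hv2⟩
      simpa using this
    have hCY : Y ⊓ centralizer (A' : Set G) = ⊥ := by
      rw [eq_bot_iff]
      rintro _ ⟨⟨f, hf, rfl⟩, hc⟩
      rw [mem_bot]
      have e1 : b * D.w f * b⁻¹ = D.w f := by
        rw [mem_centralizer_iff.1 hc b hb]; group
      rw [D.conj_w (hof.AM hb)] at e1
      have e2 := D.w_inj (fun u => by
        obtain ⟨t, ht, ht1, ht2⟩ : ∃ t, D.blk t = D.blk u ∧ t ≠ z ∧ t ≠ D.r b z := by
          by_cases hu : u = z
          · subst hu; exact D.exists_third u _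
          · by_cases hu2 : u = D.r b z
            · subst hu2
              obtain ⟨t, ht, h1, h2⟩ := D.exists_third (D.r b z) z
              exact ⟨t, ht, h2, h1⟩
            · exact ⟨u, rfl, hu, hu2⟩
        refine ⟨t, ht, hf _ ?_, hf _ (by simpa using ht1)⟩
        simp only [Finset.mem_singleton]
        intro e
        apply ht2
        rw [← e, apply_inv_self']) e1
      have h4 : f = 0 := by
        funext u
        by_cases hu : u = z
        · subst hu
          have e3 := congrFun e2 (D.r b u)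
          rw [inv_apply_self'] at e3
          rw [e3]
          exact hf _ (by simpa using hbz)
        · exact hf u (by simpa using hu)
      rw [h4, D.w_zero]
    have he : Nat.card A' * Nat.card ↥(Y ⊓ centralizer (A' : Set G)) ≤ Nat.card F * Nat.card Y := by
      rw [hCY, Subgroup.card_bot, mul_one]
      calc Nat.card A' ≤ 2 * Nat.card F := hcF2
        _ ≤ Nat.card Y * Nat.card F := Nat.mul_le_mul_right _ hcY
        _ = _ := mul_comm _ _
    have hbF : Best X F := best_cut' hX hof.best ((YK_le D _).trans hVX) he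
    have hcF3 := hcle.trans (best_cut_eq hX ((YK_le D _).trans hVX) he)
    have hXF : A ⊓ centralizer (X : Set G) ≤ F :=
      le_inf hXle (inf_le_right.trans (centralizer_le ((YK_le D _).trans hVX)))
    have hofF : Ofd M X F := sub hof hVX inf_le_left hbF
    -- `F` is proper, so it fixes `x`
    have hFx : ∀ c ∈ F, D.r c x = x := by
      by_contra hcon
      push Not at hcon
      obtain ⟨c, hc, hcx⟩ := hcon
      have h5 : D.r c x = y := by
        rcases r_cases D hof hVX hX ha' hax'' hc.1 with h6 | h6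
        · exact absurd h6 hcx
        · rw [h6, hax']
      have h6 := hmin F ⟨inf_le_left.trans hle, hofF, hXF, hcF3, c, hc, h5⟩
      have h7 : F < A' := lt_of_le_of_ne inf_le_left fun e => hbz (hYF b (by rw [e]; exact hb))
      have h8 : Nat.card F < Nat.card A' := by
        refine lt_of_le_of_ne (Subgroup.card_le_of_le h7.le) fun e => h7.ne ?_
        exact Subgroup.eq_of_le_of_card_ge h7.le e.ge
      omega
    -- the count with `K = {x, z}`
    have hc := count D hof hVX hX {x, z} (fun u => by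
      obtain ⟨t, ht, hfix⟩ := exists_fixed D hof hVX hX u
      refine ⟨t, ht, fun c hc hck => ?_⟩
      rw [hfix c hc] at hck
      simp only [Finset.mem_insert, Finset.mem_singleton] at hck
      rcases hck with rfl | rfl
      · exact hax'' (hfix a' ha')
      · exact hbz (hfix b hb)) (fun k hk => by
        simp only [Finset.mem_insert, Finset.mem_singleton] at hk
        rcases hk with rfl | rfl
        · refine ⟨a', ha', ?_⟩
          rw [hax']
          simp only [Finset.mem_insert, Finset.mem_singleton]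
          rintro (e | e)
          · exact hxy e.symm
          · exact hzy e.symm
        · refine ⟨b, hb, ?_⟩
          simp only [Finset.mem_insert, Finset.mem_singleton]
          rintro (e | e)
          · -- `b z = x`, so `z = b x ∈ {x, y}`
            have h5 : D.r b x = k := by rw [← e, r_sq D hof hVX hb]
            rcases r_cases D hof hVX hX ha' hax'' hb with h6 | h6
            · exact hzx (h5.symm.trans h6)
            · exact hzy (h5.symm.trans (h6.trans hax'))
          · exact hbz e) F inf_le_left (fun c hc k hk => by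
        simp only [Finset.mem_insert, Finset.mem_singleton] at hk
        rcases hk with rfl | rfl
        · exact hFx c hc
        · exact hYF c hc)
    rw [Finset.card_pair hzx.symm] at hc
    have hp : 0 < Nat.card F := Nat.card_pos
    omega
  have key : ∀ b ∈ A', D.r b = 1 ∨ D.r b = Equiv.swap x y := by
    intro b hb
    rcases r_cases D hof hVX hX ha' hax'' hb with h1 | h1
    · left
      ext1 u
      by_cases hux : u = x
      · rw [hux, h1]; rfl
      · by_cases huy : u = y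
        · rw [huy]
          have h2 : D.r b y ≠ x := by
            intro e
            have h3 : D.r b x = y := by rw [← e, r_sq D hof hVX hb]
            exact hxy (h1.symm.trans h3)
          have h4 : D.r b (D.r a' x) = D.r a' (D.r b x) := r_comm D hof hVX hb ha' x
          rw [h1, hax'] at h4
          rw [h4]; rfl
        · rw [hoth u hux huy b hb]; rfl
    · right
      rw [hax'] at h1
      ext1 u
      by_cases hux : u = x
      · rw [hux, h1, Equiv.swap_apply_left]
      · by_cases huy : u = y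
        · rw [huy, Equiv.swap_apply_right, ← h1, r_sq D hof hVX hb]
        · rw [hoth u hux huy b hb, Equiv.swap_apply_of_ne_of_ne hux huy]
  refine ⟨A', hle, hof, ⟨a', ha', ?_⟩, key, hXle, hcle⟩
  rcases key a' ha' with h1 | h1
  · exfalso; apply hax''; rw [h1]; rfl
  · exact h1

end Ofd

end Cfsg.Agent.Omega.NOThreeL.RRed.BFr

end

section


/-!
# NO-3L, box R: the pairs of letters

`AA` a family of best offenders of `S` on `X ≥ V` (`BFam`), `J₀ = ⟨AA⟩`, every block is moved.

* `Lv` : the level data;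
* `Lv.Pr x y` : the transposition `(x y)` is induced by `J₀`; `Pr.unique`, `Lv.pr_of_move` ;
* `Lv.exists_un`, `Lv.un_unique` : in every block exactly one letter lies in no pair.
-/

set_option autoImplicit false
set_option linter.unusedSectionVars false

namespace Cfsg.Agent.Omega.NOThreeL.RRed.BFr

open Subgroup Cfsg Cfsg.Agent.ZN Cfsg.Agent.ZN.ChoiceBase
open Cfsg.Agent.Omega.SQ1.Bau (mem_sup_comm card_sup_comm elem_comm elem_sq)
open Cfsg.Agent.Omega.OM.Lev.Uni (Best)
open Cfsg.Agent.Omega.FFThm (ElemM)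
open Cfsg.Agent.Omega.NO3S.OneLine (BFam)

universe u

variable {G : Type u} [Group G]

section sylow

variable [Finite G]

theorem exists_into (S : Sylow 2 G) {M T : Subgroup G} (hS : (S : Subgroup G) ≤ M) (hT : IsPGroup 2 T)
    (hTM : T ≤ M) : ∃ m ∈ M, cj m T ≤ (S : Subgroup G) := by
  have : Fact (Nat.Prime 2) := ⟨Nat.prime_two⟩
  let S' : Sylow 2 M := S.subtype hS
  have hT' : IsPGroup 2 (T.subgroupOf M) := hT.comap_of_injective _ (subtype_injective M)
  obtain ⟨R, hR⟩ := hT'.exists_le_sylow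
  obtain ⟨g, hg⟩ := MulAction.exists_smul_eq M R S'
  refine ⟨g, g.2, ?_⟩
  rintro _ ⟨x, hx, rfl⟩
  have h1 : (⟨x, hTM hx⟩ : M) ∈ (R : Subgroup M) := hR (mem_subgroupOf.2 hx)
  have h2 : g * ⟨x, hTM hx⟩ * g⁻¹ ∈ ((g • R : Sylow 2 M) : Subgroup M) := by
    rw [Sylow.coe_subgroup_smul, mem_pointwise_smul_iff_inv_smul_mem]
    have e3 : (MulAut.conj g)⁻¹ • (g * ⟨x, hTM hx⟩ * g⁻¹) = ⟨x, hTM hx⟩ := by
      rw [← _root_.map_inv, MulAut.smul_def, MulAut.conj_apply]
      group
    rwa [e3]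
  rw [hg] at h2
  exact h2

theorem exists_common {K A B : Subgroup G} (hA : IsPGroup 2 A) (hB : IsPGroup 2 B) (hAK : A ≤ K) (hBK : B ≤ K) :
    ∃ k ∈ K, ∃ R : Subgroup G, R ≤ K ∧ IsPGroup 2 R ∧ A ≤ R ∧ cj k B ≤ R := by
  have : Fact (Nat.Prime 2) := ⟨Nat.prime_two⟩
  have hA' : IsPGroup 2 (A.subgroupOf K) := hA.comap_of_injective _ (subtype_injective K)
  have hB' : IsPGroup 2 (B.subgroupOf K) := hB.comap_of_injective _ (subtype_injective K)
  obtain ⟨R, hR⟩ := hA'.exists_le_sylow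
  obtain ⟨R', hR'⟩ := hB'.exists_le_sylow
  obtain ⟨g, hg⟩ := MulAction.exists_smul_eq K R' R
  refine ⟨g, g.2, (R : Subgroup K).map K.subtype, ?_, R.isPGroup'.map _, ?_, ?_⟩
  · rintro _ ⟨x, -, rfl⟩
    exact x.2
  · intro x hx
    exact ⟨⟨x, hAK hx⟩, hR (mem_subgroupOf.2 hx), rfl⟩
  · rintro _ ⟨x, hx, rfl⟩
    have h1 : (⟨x, hBK hx⟩ : K) ∈ (R' : Subgroup K) := hR' (mem_subgroupOf.2 hx)
    have h2 : g * ⟨x, hBK hx⟩ * g⁻¹ ∈ ((g • R' : Sylow 2 K) : Subgroup K) := by
      rw [Sylow.coe_subgroup_smul, mem_pointwise_smul_iff_inv_smul_mem]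
      have e3 : (MulAut.conj g)⁻¹ • (g * ⟨x, hBK hx⟩ * g⁻¹) = ⟨x, hBK hx⟩ := by
        rw [← _root_.map_inv, MulAut.smul_def, MulAut.conj_apply]
        group
      rwa [e3]
    rw [hg] at h2
    exact ⟨_, h2, rfl⟩

end sylow

/-- The level data. -/
structure Lv (S : Sylow 2 G) {M V : Subgroup G} {Pt I : Type} [Fintype Pt] [DecidableEq Pt] [DecidableEq I]
    (D : Pts M V Pt I) (X L J : Subgroup G) (AA : Set (Subgroup G)) : Prop where
  SM : (S : Subgroup G) ≤ M
  ML : M ≤ L
  fam : BFam (S : Subgroup G) X L AA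
  elX : IsElementaryAbelian 2 X
  VX : V ≤ X
  VS : V ≤ (S : Subgroup G)
  MX : ∀ g ∈ M, ∀ x ∈ X, g * x * g⁻¹ ∈ X
  MQ : ∀ g ∈ M, ∀ x ∈ (S : Subgroup G) ⊓ centralizer (V : Set G), g * x * g⁻¹ ∈ (S : Subgroup G)
  AJ : ∀ A ∈ AA, A ≤ J
  JS : J ≤ (S : Subgroup G)
  Jg : J ≤ sSup AA ⊔ ((S : Subgroup G) ⊓ centralizer (V : Set G))
  mv : ∀ x, ∃ y, D.blk y = D.blk x ∧ ∃ A ∈ AA, ∃ a ∈ A, D.r a y ≠ y

namespace Lv

variable {S : Sylow 2 G} {M V : Subgroup G} {Pt I : Type} [Fintype Pt] [DecidableEq Pt] [DecidableEq I]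
variable {D : Pts M V Pt I} {X L J : Subgroup G} {AA : Set (Subgroup G)} (h : Lv S D X L J AA)
include h

theorem Xc : ∀ x ∈ X, ∀ y ∈ X, x * y = y * x := elem_comm h.elX

theorem ofd {A : Subgroup G} (hA : A ∈ AA) : Ofd M X A where
  AM := (h.fam.le A hA).trans h.SM
  p := S.isPGroup'.to_le (h.fam.le A hA)
  el := h.fam.elem A hA
  best := h.fam.best A hA

theorem J0S : sSup AA ≤ (S : Subgroup G) := sSup_le h.fam.le

theorem J0M : sSup AA ≤ M := h.J0S.trans h.SM

theorem norm_cX {g : G} (hg : g ∈ M) {c : G} (hc : c ∈ centralizer (X : Set G)) :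
    g * c * g⁻¹ ∈ centralizer (X : Set G) := by
  rw [mem_centralizer_iff] at hc ⊢
  intro x hx
  have h1 := hc (g⁻¹ * x * g) (by simpa using h.MX g⁻¹ (inv_mem hg) x hx)
  calc x * (g * c * g⁻¹) = g * ((g⁻¹ * x * g) * c) * g⁻¹ := by group
    _ = g * c * g⁻¹ * x := by rw [h1]; group

/-- **A member of `AA` acting as one transposition.** -/
theorem exists_member [Finite G] {A : Subgroup G} (hA : A ∈ AA) {a : G} (ha : a ∈ A) {x y : Pt} (hax : D.r a x = y)
    (hxy : x ≠ y) : ∃ B' ∈ AA, (∃ b ∈ B', D.r b = Equiv.swap x y) ∧ ∀ b ∈ B', D.r b = 1 ∨ D.r b = Equiv.swap x y := by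
  obtain ⟨A', hA', hof, ⟨a', ha', e⟩, hall, h1, h2⟩ := Ofd.exists_swap D (h.ofd hA) h.VX h.Xc ha hax hxy
  obtain ⟨B', hB', hBA⟩ := h.fam.cut A hA A' h1 hA' (le_antisymm (h.fam.best A hA A' h1 hA') h2)
  have hBM : B' ≤ M := (h.fam.le B' hB').trans h.SM
  have key : ∀ E F : Subgroup G, E ≤ M → F ≤ M → F ≤ E ⊔ centralizer (X : Set G) → ∀ b ∈ F, ∃ c ∈ E, D.r b = D.r c := by
    intro E F hE hF hFE b hb
    obtain ⟨c, hc, d, hd, rfl⟩ := Cfsg.Agent.Omega.SQ1.Bau.mem_sup_norm (A := E) (B := centralizer (X : Set G))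
      (fun g hg => mem_normalizer_iff.2 fun c => ⟨fun hc => h.norm_cX (hE hg) hc, fun hc => by
        have h3 := h.norm_cX (inv_mem (hE hg)) hc
        have e1 : g⁻¹ * (g * c * g⁻¹) * g⁻¹⁻¹ = c := by group
        rwa [e1] at h3⟩) (hFE hb)
    have hdM : d ∈ M := by
      have h3 := mul_mem (inv_mem (hE hc)) (hF hb)
      rwa [inv_mul_cancel_left] at h3
    refine ⟨c, hc, ?_⟩
    have h4 : D.r d = 1 := (D.r_eq_one_iff hdM).2 fun v hv => (mem_centralizer_iff.1 hd v (h.VX hv)).symm
    rw [D.r_mul (hE hc) hdM, h4, mul_one]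
  refine ⟨B', hB', ?_, fun b hb => ?_⟩
  · obtain ⟨c, hc, e1⟩ := key B' A' hBM hof.AM (by rw [hBA]; exact le_sup_left) a' ha'
    exact ⟨c, hc, by rw [← e1, e]⟩
  · obtain ⟨c, hc, e1⟩ := key A' B' hof.AM hBM (by rw [← hBA]; exact le_sup_left) b hb
    rw [e1]
    exact hall c hc

variable (D AA) in
omit h in
/-- the transposition `(x y)` is induced by `⟨AA⟩` -/
def Pr (x y : Pt) : Prop := x ≠ y ∧ D.blk x = D.blk y ∧ ∃ a ∈ sSup AA, D.r a = Equiv.swap x y

omit h in
theorem Pr.symm {x y : Pt} (hp : Pr D AA x y) : Pr D AA y x := by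
  obtain ⟨h1, h2, a, ha, h3⟩ := hp
  exact ⟨h1.symm, h2.symm, a, ha, by rw [h3, Equiv.swap_comm]⟩

theorem pr_of_move [Finite G] {A : Subgroup G} (hA : A ∈ AA) {a : G} (ha : a ∈ A) {x : Pt} (hx : D.r a x ≠ x) :
    Pr D AA x (D.r a x) := by
  obtain ⟨A', hA', -, ⟨a', ha', e⟩, -, -, -⟩ := Ofd.exists_swap D (h.ofd hA) h.VX h.Xc ha rfl hx.symm
  exact ⟨hx.symm, (Ofd.blk_eq D (h.ofd hA) h.VX h.Xc ha x).symm, a', (le_sSup hA) (hA' ha'), e⟩

theorem r_pow_two {a : G} (ha : a ∈ (S : Subgroup G)) : ∃ n : ℕ, D.r a ^ (2 ^ n) = 1 := by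
  obtain ⟨n, hn⟩ := S.isPGroup' ⟨a, ha⟩
  refine ⟨n, ?_⟩
  have hn' : a ^ 2 ^ n = 1 := congrArg Subtype.val hn
  have key : ∀ m : ℕ, D.r (a ^ m) = D.r a ^ m := by
    intro m
    induction m with
    | zero => rw [pow_zero, pow_zero, D.r_one]
    | succ m ih => rw [pow_succ, pow_succ, D.r_mul (M.pow_mem (h.SM ha) m) (h.SM ha), ih]
  rw [← key, hn', D.r_one]

theorem Pr_unique [Finite G] {x y z : Pt} (h1 : Pr D AA x y) (h2 : Pr D AA x z) : y = z := by
  by_contra hyz
  obtain ⟨hxy, -, a, ha, ea⟩ := h1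
  obtain ⟨hxz, -, b, hb, eb⟩ := h2
  have hab : a * b ∈ (S : Subgroup G) := mul_mem (h.J0S ha) (h.J0S hb)
  obtain ⟨n, hn⟩ := h.r_pow_two hab
  rw [D.r_mul (h.J0M ha) (h.J0M hb), ea, eb] at hn
  have h3 : (Equiv.swap x y * Equiv.swap x z) ^ 3 = 1 := by
    ext1 u
    simp only [pow_succ, pow_zero, one_mul, Equiv.Perm.mul_apply, Equiv.Perm.one_apply]
    by_cases hux : u = x
    · subst hux
      rw [Equiv.swap_apply_left, Equiv.swap_apply_of_ne_of_ne hxz.symm (Ne.symm hyz), Equiv.swap_apply_right,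
        Equiv.swap_apply_left, Equiv.swap_apply_of_ne_of_ne hxy.symm hyz, Equiv.swap_apply_right]
    · by_cases huy : u = y
      · subst huy
        rw [Equiv.swap_apply_of_ne_of_ne hux hyz, Equiv.swap_apply_right, Equiv.swap_apply_left,
          Equiv.swap_apply_of_ne_of_ne hxz.symm (Ne.symm hyz), Equiv.swap_apply_right, Equiv.swap_apply_left]
      · by_cases huz : u = z
        · subst huz
          rw [Equiv.swap_apply_right, Equiv.swap_apply_left, Equiv.swap_apply_of_ne_of_ne hxy.symm hyz,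
            Equiv.swap_apply_right, Equiv.swap_apply_left, Equiv.swap_apply_of_ne_of_ne hux huy]
        · simp only [Equiv.swap_apply_of_ne_of_ne hux huz, Equiv.swap_apply_of_ne_of_ne hux huy]
  have h4 : orderOf (Equiv.swap x y * Equiv.swap x z) ∣ 3 := orderOf_dvd_of_pow_eq_one h3
  have h5 : orderOf (Equiv.swap x y * Equiv.swap x z) ∣ 2 ^ n := orderOf_dvd_of_pow_eq_one hn
  have h6 : Nat.Coprime 3 (2 ^ n) := Nat.Coprime.pow_right n (by norm_num)
  have h7 : orderOf (Equiv.swap x y * Equiv.swap x z) = 1 := Nat.eq_one_of_dvd_coprimes h6 h4 h5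
  rw [orderOf_eq_one_iff] at h7
  have h8 := congrArg (fun σ : Equiv.Perm Pt => σ x) h7
  simp only [Equiv.Perm.mul_apply, Equiv.Perm.one_apply, Equiv.swap_apply_left] at h8
  rw [Equiv.swap_apply_of_ne_of_ne hxz.symm (Ne.symm hyz)] at h8
  exact hxz h8.symm

/-- every element of `J` maps a letter to itself or to its partner -/
theorem J_move [Finite G] {a : G} (ha : a ∈ J) (x : Pt) : D.r a x = x ∨ Pr D AA x (D.r a x) := by
  have key : ∀ a ∈ sSup AA ⊔ ((S : Subgroup G) ⊓ centralizer (V : Set G)),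
      ∀ x, D.r a x = x ∨ Pr D AA x (D.r a x) := by
    let N : Subgroup G :=
      { carrier := {a | a ∈ M ∧ ∀ x, D.r a x = x ∨ Pr D AA x (D.r a x)}
        mul_mem' := by
          rintro a b ⟨ha, ha'⟩ ⟨hb, hb'⟩
          refine ⟨mul_mem ha hb, fun x => ?_⟩
          rw [D.r_mul ha hb, Equiv.Perm.mul_apply]
          rcases hb' x with h1 | h1
          · rw [h1]; exact ha' x
          · rcases ha' (D.r b x) with h2 | h2
            · rw [h2]; exact Or.inr h1
            · left; exact h.Pr_unique h2 h1.symm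
        one_mem' := ⟨one_mem _, fun x => Or.inl (by rw [D.r_one]; rfl)⟩
        inv_mem' := by
          rintro a ⟨ha, ha'⟩
          refine ⟨inv_mem ha, fun x => ?_⟩
          rw [D.r_inv ha]
          rcases ha' ((D.r a)⁻¹ x) with h1 | h1
          · left
            rw [apply_inv_self'] at h1
            exact h1.symm
          · rw [apply_inv_self'] at h1
            exact Or.inr h1.symm }
    have h1 : sSup AA ≤ N := sSup_le fun A hA a ha => ⟨h.SM (h.fam.le A hA ha), fun x => by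
      by_cases hx : D.r a x = x
      · exact Or.inl hx
      · exact Or.inr (h.pr_of_move hA ha hx)⟩
    have h2 : (S : Subgroup G) ⊓ centralizer (V : Set G) ≤ N := by
      rintro a ⟨ha, hc⟩
      refine ⟨h.SM ha, fun x => Or.inl ?_⟩
      have h3 : D.r a = 1 := (D.r_eq_one_iff (h.SM ha)).2 fun v hv => (mem_centralizer_iff.1 hc v hv).symm
      rw [h3]; rfl
    exact fun a ha => (sup_le h1 h2 ha).2
  exact key a (h.Jg ha) x

theorem J0_le_J : sSup AA ≤ J := sSup_le h.AJ

/-- a 2-group has a fixed point on an invariant odd set of letters -/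
theorem fix_of_odd [Finite G] {A : Subgroup G} (hAM : A ≤ M) (hAp : IsPGroup 2 A) (K : Finset Pt) (hodd : Odd K.card)
    (hK : ∀ a ∈ A, ∀ y ∈ K, D.r a y ∈ K) : ∃ y ∈ K, ∀ a ∈ A, D.r a y = y := by
  classical
  let _ : MulAction A K :=
    { smul := fun g y => ⟨D.r g y.1, hK g g.2 y.1 y.2⟩
      one_smul := fun y => Subtype.ext (by show D.r ((1 : A) : G) y.1 = y.1; rw [Subgroup.coe_one, D.r_one]; rfl)
      mul_smul := fun g g' y => Subtype.ext (by
        show D.r ((g * g' : A) : G) y.1 = D.r g (D.r g' y.1)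
        rw [Subgroup.coe_mul, D.r_mul (hAM g.2) (hAM g'.2), Equiv.Perm.mul_apply]) }
  have hcard : ¬ 2 ∣ Nat.card K := by
    have e : Nat.card K = K.card := by
      rw [Nat.card_eq_fintype_card, Fintype.card_coe]
    rw [e]
    rw [← Nat.not_even_iff_odd, even_iff_two_dvd] at hodd
    exact hodd
  have : Fact (Nat.Prime 2) := ⟨Nat.prime_two⟩
  obtain ⟨y, hy⟩ := hAp.nonempty_fixed_point_of_prime_not_dvd_card K hcard
  exact ⟨y.1, y.2, fun a ha => congrArg Subtype.val (hy (⟨a, ha⟩ : A))⟩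

/-- **(i)** every block has a letter in no pair -/
theorem exists_un [Finite G] (x : Pt) : ∃ u, D.blk u = D.blk x ∧ ∀ y, ¬ Pr D AA u y := by
  obtain ⟨y, hy, hfix⟩ := h.fix_of_odd h.J0M (S.isPGroup'.to_le h.J0S)
    (Finset.univ.filter fun y => D.blk y = D.blk x) (D.odd x) fun a ha y hy => by
      rw [Finset.mem_filter] at hy ⊢
      refine ⟨Finset.mem_univ _, ?_⟩
      rcases h.J_move (h.J0_le_J ha) y with h1 | h1
      · rw [h1]; exact hy.2
      · rw [← h1.2.1]; exact hy.2
  refine ⟨y, (Finset.mem_filter.1 hy).2, fun z hz => ?_⟩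
  obtain ⟨hne, -, a, ha, e⟩ := hz
  have h1 := hfix a ha
  rw [e, Equiv.swap_apply_left] at h1
  exact hne h1.symm

/-- conjugates of `⟨AA⟩` -/
theorem cj_J0 [Finite G] {m : G} (hm : m ∈ M) (hle : cj m (sSup AA) ≤ (S : Subgroup G)) : cj m (sSup AA) = sSup AA := by
  have h1 : cj m (sSup AA) ≤ sSup AA := by
    show Subgroup.map _ _ ≤ _
    rw [Subgroup.map_le_iff_le_comap]
    refine sSup_le fun A hA => ?_
    rw [← Subgroup.map_le_iff_le_comap]
    exact le_sSup (h.fam.conj A hA m (h.ML hm) ((cj_mono m (le_sSup hA)).trans hle))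
  exact Subgroup.eq_of_le_of_card_ge h1 (by rw [card_cj])

theorem pe_comm_of {x y : Pt} (hxy : D.blk x = D.blk y) {a : G} (ha : a ∈ M) (h1 : D.r a x = x ∨ D.r a x = y)
    (h2 : D.r a y = y ∨ D.r a y = x) : a * D.pe x y = D.pe x y * a := by
  rw [D.comm_iff ha (D.pe_mem x y)]
  intro z
  rw [D.e_pe' hxy, D.e_pe' hxy]
  by_cases hne : x = y
  · subst hne
    rw [add_self, add_self]
  have c1 : D.r a z = x ∨ D.r a z = y ↔ z = x ∨ z = y := by
    constructor
    · rintro (e | e)
      · rcases h1 with h1 | h1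
        · left; exact (D.r a).injective (e.trans h1.symm)
        · rcases h2 with h2 | h2
          · exact absurd ((D.r a).injective (h1.trans h2.symm)) hne
          · right; exact (D.r a).injective (e.trans h2.symm)
      · rcases h2 with h2 | h2
        · right; exact (D.r a).injective (e.trans h2.symm)
        · rcases h1 with h1 | h1
          · exact absurd ((D.r a).injective (h1.trans h2.symm)) hne
          · left; exact (D.r a).injective (e.trans h1.symm)
    · rintro (rfl | rfl)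
      · exact h1
      · exact h2.symm
  have c2 : ∀ u, ((if u = x then (1 : ZMod 2) else 0) + if u = y then 1 else 0) = if u = x ∨ u = y then 1 else 0 := by
    intro u
    by_cases hu : u = x
    · subst hu; simp [hne]
    · simp [hu]
  rw [c2, c2]
  simp only [c1]

/-- if `a` commutes with the pair `{x, y}`, then it preserves `{x, y}` -/
theorem of_pe_comm {x y : Pt} (hxy : D.blk x = D.blk y) (hne : x ≠ y) {a : G} (ha : a ∈ M)
    (h1 : a * D.pe x y = D.pe x y * a) : (D.r a x = x ∨ D.r a x = y) ∧ (D.r a y = y ∨ D.r a y = x) := by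
  rw [D.comm_iff ha (D.pe_mem x y)] at h1
  have c2 : ∀ u, ((if u = x then (1 : ZMod 2) else 0) + if u = y then 1 else 0) = if u = x ∨ u = y then 1 else 0 := by
    intro u
    by_cases hu : u = x
    · subst hu; simp [hne]
    · simp [hu]
  have c3 : ∀ u, u = x ∨ u = y → D.r a u = x ∨ D.r a u = y := by
    intro u hu
    have h2 := h1 u
    rw [D.e_pe' hxy, D.e_pe' hxy, c2, c2, if_pos hu] at h2
    by_contra hcon
    rw [if_neg hcon] at h2
    exact absurd h2 (by decide)
  exact ⟨c3 x (Or.inl rfl), (c3 y (Or.inr rfl)).symm⟩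

/-- an element of `M` mapping `x`, `y` to `u`, `v` -/
theorem exists_map {x y u v : Pt} (hxy : x ≠ y) (huv : u ≠ v) (h1 : D.blk x = D.blk y) (h2 : D.blk u = D.blk v)
    (h3 : D.blk x = D.blk u) (hyu : y ≠ u) (hyv : y ≠ v) (hxu : x ≠ u) :
    ∃ m ∈ M, D.r m x = u ∧ D.r m y = v := by
  obtain ⟨t, ht, et⟩ := D.full x u hxu h3
  obtain ⟨s, hs, es⟩ := D.full y v hyv (h1.symm.trans (h3.trans h2))
  have e1 : D.r t = Equiv.swap x u := D.r_eq ht et
  have e2 : D.r s = Equiv.swap y v := D.r_eq hs es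
  refine ⟨s * t, mul_mem hs ht, ?_, ?_⟩
  · rw [D.r_mul hs ht, e1, e2, Equiv.Perm.mul_apply, Equiv.swap_apply_left, Equiv.swap_apply_of_ne_of_ne hyu.symm huv]
  · rw [D.r_mul hs ht, e1, e2, Equiv.Perm.mul_apply, Equiv.swap_apply_of_ne_of_ne hxy.symm hyu, Equiv.swap_apply_left]

/-- **(ii)** there is only one such letter -/
theorem un_unique [Finite G] {u v : Pt} (huv : D.blk u = D.blk v) (hu : ∀ y, ¬ Pr D AA u y) (hv : ∀ y, ¬ Pr D AA v y) :
    u = v := by
  by_contra hne
  -- a pair in this block, and `A'` acting as its transposition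
  obtain ⟨x, hx, A, hA, a, ha, hax⟩ := h.mv u
  set y := D.r a x with hy
  have hp := h.pr_of_move hA ha hax
  rw [← hy] at hp
  obtain ⟨A', hA', ⟨a', ha', ea'⟩, hall⟩ := h.exists_member hA ha hy.symm hp.1
  have hA'M : A' ≤ M := (h.fam.le A' hA').trans h.SM
  -- `x, y, u, v` are distinct
  have hxu : x ≠ u := fun e => hu y (e ▸ hp)
  have hxv : x ≠ v := fun e => hv y (e ▸ hp)
  have hyu : y ≠ u := fun e => hu x (e ▸ hp.symm)
  have hyv : y ≠ v := fun e => hv x (e ▸ hp.symm)
  obtain ⟨m, hm, hmx, hmy⟩ := h.exists_map hp.1 hne hp.2.1 huv hx hyu hyv hxu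
  -- `A₁ = A'^m` acts as `(u v)`
  have hA1 : ∀ b ∈ cj m A', b ∈ M ∧ (D.r b = 1 ∨ D.r b = Equiv.swap u v) := by
    rintro _ ⟨b, hb, rfl⟩
    have hbM := hA'M hb
    refine ⟨mul_mem (mul_mem hm hbM) (inv_mem hm), ?_⟩
    show D.r (m * b * m⁻¹) = 1 ∨ D.r (m * b * m⁻¹) = _
    rw [D.r_mul (mul_mem hm hbM) (inv_mem hm), D.r_mul hm hbM, D.r_inv hm]
    rcases hall b hb with e | e
    · left; rw [e]; group
    · right
      rw [e, ← hmx, ← hmy, Equiv.swap_apply_apply]
  set K₀ : Subgroup G := M ⊓ centralizer ({D.pe u v} : Set G) with hK₀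
  have hJK : sSup AA ≤ K₀ := by
    intro b hb
    refine ⟨h.J0M hb, mem_centralizer_singleton_iff.2 (h.pe_comm_of huv (h.J0M hb) ?_ ?_)⟩
    · left
      exact (h.J_move (h.J0_le_J hb) u).resolve_right (hu _)
    · left
      exact (h.J_move (h.J0_le_J hb) v).resolve_right (hv _)
  have hAK : cj m A' ≤ K₀ := by
    intro b hb
    obtain ⟨hbM, hb'⟩ := hA1 b hb
    refine ⟨hbM, mem_centralizer_singleton_iff.2 (h.pe_comm_of huv hbM ?_ ?_)⟩
    · rcases hb' with e | e
      · left; rw [e]; rfl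
      · right; rw [e, Equiv.swap_apply_left]
    · rcases hb' with e | e
      · left; rw [e]; rfl
      · right; rw [e, Equiv.swap_apply_right]
  have hpA1 : IsPGroup 2 (cj m A' : Subgroup G) := (S.isPGroup'.to_le (h.fam.le A' hA')).map _
  obtain ⟨k, hk, R, hRK, hRp, hJR, hAR⟩ := exists_common (S.isPGroup'.to_le h.J0S) hpA1 hJK hAK
  obtain ⟨m', hm', hm'S⟩ := exists_into S h.SM hRp (hRK.trans inf_le_left)
  -- `J₀^m' = J₀`
  have hJ0 := h.cj_J0 hm' ((cj_mono m' hJR).trans hm'S)
  -- an element of `AA` acting as `A'`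
  have hAS : cj (m' * k * m) A' ≤ (S : Subgroup G) := by
    rw [← cj_cj, ← cj_cj]
    exact (cj_mono m' hAR).trans hm'S
  have hkM : k ∈ M := hk.1
  have hnM : m' * k * m ∈ M := mul_mem (mul_mem hm' hkM) hm
  have hAA := h.fam.conj A' hA' (m' * k * m) (h.ML hnM) hAS
  -- `(u v)` is induced by `⟨AA⟩`
  have hmem : k * m * a' * (k * m)⁻¹ ∈ sSup AA := by
    have h1 : m' * k * m * a' * (m' * k * m)⁻¹ ∈ sSup AA := (le_sSup hAA) ⟨a', ha', rfl⟩
    rw [← hJ0, mem_cj] at h1
    have e1 : m'⁻¹ * (m' * k * m * a' * (m' * k * m)⁻¹) * m' = k * m * a' * (k * m)⁻¹ := by group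
    rwa [e1] at h1
  have hpe := h.of_pe_comm huv hne hkM (mem_centralizer_singleton_iff.1 hk.2)
  have er : D.r (k * m * a' * (k * m)⁻¹) = Equiv.swap u v := by
    have e1 : D.r (k * m * a' * (k * m)⁻¹) = Equiv.swap (D.r k u) (D.r k v) := by
      rw [D.r_mul (mul_mem (mul_mem hkM hm) (hA'M ha')) (inv_mem (mul_mem hkM hm)),
        D.r_mul (mul_mem hkM hm) (hA'M ha'), D.r_inv (mul_mem hkM hm), D.r_mul hkM hm, ea', ← hmx, ← hmy,
        ← Equiv.Perm.mul_apply, ← Equiv.Perm.mul_apply, Equiv.swap_apply_apply]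
    rw [e1]
    obtain ⟨h1, h2⟩ := hpe
    rcases h1 with h1 | h1
    · rcases h2 with h2 | h2
      · rw [h1, h2]
      · exact absurd ((D.r k).injective (h1.trans h2.symm)) hne
    · rcases h2 with h2 | h2
      · exact absurd ((D.r k).injective (h1.trans h2.symm)) hne
      · rw [h1, h2, Equiv.swap_comm]
  exact hu v ⟨hne, huv, _, hmem, er⟩

end Lv

end Cfsg.Agent.Omega.NOThreeL.RRed.BFr

end
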