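import Cfsg.Agent.Mrg.Omega.EDel.FinT
import Cfsg.Agent.Mrg.Omega.NOThreeL.RRed.BFr.Plug
import Cfsg.Agent.Mrg.Omega.EDel.LX
import Cfsg.Agent.Mrg.Omega.NOThreeL.RLev.Chain
import Cfsg.Agent.Mrg.Omega.NOThreeL.RRed.BFr.VSup
import Cfsg.Agent.Mrg.Omega.Node.MulG
import Cfsg.Agent.Mrg.Omega.NOThreeL.RZ.LowR

section


/-!
# NO-3L, box R: the frame over `B` at a general level `X`

`X ≥ V*` elementary abelian, `M₀ = MZ S ≤ N_G(X)`, `J = nxtX S X` (`C_S(X)` and the best offenders of `S` on `X`),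
`Z_J = C_{V*}(J)`, `B = C_S(Z_J)`; e.g. `X = V*`.

* `Bd.lvX` : the level data; `Bd.zcQ_of` : `Ω₁Z(Q) ≤ X` implies `Ω₁Z(Q) ≤ V`;
* `Bd.frX` : the frame `FrL B Q V X Z_J L W Z C A 2`, if `Ω₁Z(Q) ≤ V`; `M ∩ N(B)` is transitive on the pairs;
* `all_blocks` : if `J` moves `V*` then `J` moves all blocks (`V*` irreducible); `nxtX_Wd` : true for `X = V*`;
* **`exists_frX`** : the frame from the blocks.
-/

set_option autoImplicit false
set_option linter.unusedSectionVars false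

namespace Cfsg.Agent.Omega.NOThreeL.RRed.BFr

open Subgroup Cfsg Cfsg.Agent.ZN.ChoiceBase Cfsg.Agent.Omega.MinPar Cfsg.Agent.Omega.Frame
open Cfsg.Agent.ZN (jj zj bau zc zl o2)
open Cfsg.Agent.Omega.NOThreeL.Merge (MZ le_MZ S_le_MZ isLoc_MZ zl_MZ_comm zl_MZ_isPGroup)
open Cfsg.Agent.Omega.NOThreeL.RTree (RB)
open Cfsg.Agent.Omega.NO1.BestOff (Best exists_best)
open Cfsg.Agent.Omega.NO3S.OneLine (BFam bo bo_fam)
open Cfsg.Agent.Omega.OM.Lev.Uni (FrL)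
open Cfsg.Agent.Omega.NOThreeL.RZ (RR)
open Cfsg.Agent.Omega.NOThreeL.RRed (Wd zl_le_Wd)
open Cfsg.Agent.Omega.NOThreeL.RRed.FourTree (Bks nxtX ffMod_rr)
open Cfsg.Agent.Omega.NOThreeL.RRed.HypJOf (Fx mem_fx best_le_fx par_move norm_nxtX norm_nxtX_of nxtX_le trans_of_irr
  ofd_of)
open scoped Pointwise

universe u

variable {G : Type u} [Group G]

theorem nxtX_eq (S X : Subgroup G) : nxtX S X = (S ⊓ centralizer (X : Set G)) ⊔ sSup (bo S X) := by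
  have h : {A | A ≤ S ∧ Best X A} = bo S X := by
    ext A
    constructor
    · rintro ⟨h1, h2⟩
      exact ⟨h1, h2.toElemM, fun B h3 h4 => h2.max B h4 h3⟩
    · rintro ⟨h1, h2, h3⟩
      exact ⟨h1, h2, fun B h4 h5 => h3 B h5 h4⟩
  rw [nxtX, h]

section abs

variable {S : Sylow 2 G} {M V : Subgroup G} {Pt I : Type} [Fintype Pt] [DecidableEq Pt] [DecidableEq I]
  {D : Pts M V Pt I}

namespace Bd

variable (h : Bd S D) [Finite G] {X : Subgroup G} (elX : IsElementaryAbelian 2 X) (VX : V ≤ X)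
  (MX : M ≤ normalizer (X : Set G)) (mv : Mvb D (nxtX (S : Subgroup G) X))
include h elX VX MX mv

/-- the level data at `X` -/
theorem lvX : Lv S D X (normalizer (X : Set G)) (nxtX (S : Subgroup G) X) (bo (S : Subgroup G) X) where
  SM := h.SM
  ML := MX
  fam := bo_fam _ _
  elX := elX
  VX := VX
  VS := h.VS
  MX g hg x hx := (mem_normalizer_iff.1 (MX hg) x).1 hx
  MQ := h.MQ
  AJ A hA := by
    rw [nxtX_eq]
    exact (le_sSup hA).trans le_sup_right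
  JS := nxtX_le _ _
  Jg := by
    rw [nxtX_eq]
    exact sup_le ((inf_le_inf_left _ (centralizer_le VX)).trans le_sup_right) le_sup_left
  mv := by
    refine mv_of (K := nxtX (S : Subgroup G) X) (C := (S : Subgroup G) ⊓ centralizer (X : Set G))
      ((sSup_le fun A hA => hA.1).trans h.SM) (inf_le_left.trans h.SM) (inf_le_right.trans (centralizer_le VX)) ?_ mv
    rw [nxtX_eq]

/-- `Ω₁Z(Q) ≤ X` implies `Ω₁Z(Q) ≤ V` -/
theorem zcQ_of (hX : zc ((S : Subgroup G) ⊓ centralizer (V : Set G)) ≤ X) : Lv.ZcQ (S : Subgroup G) V :=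
  fun x h1 h2 h3 => (h.lvX elX VX MX mv).zcQ h.ZV hX (mem_zc.2 ⟨h1, h2, fun y hy => (h3 y hy).symm⟩)

/-- **THE FRAME OVER `B` at the level `X`.** -/
theorem frX (hz : Lv.ZcQ (S : Subgroup G) V) (tr : ∀ x y : Pt, ∃ m ∈ M, D.blk (D.r m x) = D.blk y) :
    ∃ L W Z C A : Idx D (bo (S : Subgroup G) X) → Subgroup G, (∀ i, L i ≤ M) ∧
      FrL (BB (S : Subgroup G) V (nxtX (S : Subgroup G) X)) ((S : Subgroup G) ⊓ centralizer (V : Set G)) V X
        (ZJ V (nxtX (S : Subgroup G) X)) L W Z C A 2 ∧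
      ∀ i j, ∃ g ∈ M, g ∈ normalizer (BB (S : Subgroup G) V (nxtX (S : Subgroup G) X) : Set G) ∧ cj g (W i) = W j := by
  obtain ⟨L, A, h1, -, -, h2⟩ := (h.lvX elX VX MX mv).exists_frL hz
  exact ⟨L, _, _, _, A, fun i => (h1 i).trans ((h.lvX elX VX MX mv).XX_le_M i), h2, (h.lvX elX VX MX mv).hM tr⟩

end Bd

end abs

section box

variable [Finite G] {S : Sylow 2 G} {I : Type u} [Fintype I] [DecidableEq I] {N E : I → Subgroup G} {Om : I → Type u}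
  [∀ i, Fintype (Om i)] [∀ i, DecidableEq (Om i)] {phi : ∀ i, Finset (Om i) → G}

/-- **If `nxtX S X` moves `V*` then it moves all blocks** (`V*` irreducible). -/
theorem all_blocks (B : RB S) (hB : Bks S N E ⊥ Om phi)
    (irr : ∀ U : Subgroup G, U ≤ Wd (S : Subgroup G) → MZ (S : Subgroup G) ≤ normalizer (U : Set G) → U ≠ ⊥ →
      Wd (S : Subgroup G) ≤ U) {X : Subgroup G} (hXc : ∀ x ∈ X, ∀ y ∈ X, x * y = y * x)
    (VX : Wd (S : Subgroup G) ≤ X) (MX : MZ (S : Subgroup G) ≤ normalizer (X : Set G))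
    (hj : ¬ nxtX (S : Subgroup G) X ≤ centralizer (Wd (S : Subgroup G) : Set G)) :
    ∀ b, ¬ nxtX (S : Subgroup G) X ≤ centralizer (N b : Set G) := by
  have hG := B.ctx
  have hSM := S_le_MZ hG B.full
  have tr := trans_of_irr hB.toDec irr
  have hperm : ∀ g ∈ MZ (S : Subgroup G), ∀ b, ∃ c, MulAut.conj g • N b = N c := fun g hg b => by
    obtain ⟨c, hc, -⟩ := hB.toDec.perm g hg b
    exact ⟨c, hc⟩
  have hsup : (⨆ b, N b) = Wd (S : Subgroup G) := by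
    have := hB.toDec.sup
    rwa [sup_bot_eq] at this
  have hmv : ∃ b, ¬ nxtX (S : Subgroup G) X ≤ centralizer (N b : Set G) := by
    by_contra hcon
    push Not at hcon
    apply hj
    rw [le_centralizer_iff, ← hsup]
    exact iSup_le fun b => le_centralizer_iff.1 (hcon b)
  refine RWide.LemM.mv_all (PP := {P | IsParS (S : Subgroup G) P}) hperm ?_ tr hmv
  intro P hP
  refine par_move hperm hP (le_MZ hP) ?_ (nxtX_le _ _) ?_ fun h => norm_nxtX hP ((le_MZ hP).trans MX) h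
  · refine sup_le ?_ (sSup_le fun A hA => best_le_fx hB.toFull (ofd_of hA.1 hSM hA.2) VX hXc)
    rintro c ⟨hcS, hcX⟩
    exact mem_fx.2 ⟨hSM hcS, fun b => hB.toDec.EN b (hB.toDec.CE b ⟨hSM hcS, centralizer_le VX hcX⟩)⟩
  · exact norm_nxtX_of (hSM.trans MX) fun g hg x hx => mul_mem (mul_mem hg (nxtX_le _ _ hx)) (inv_mem hg)

omit [Finite G] in
/-- `V*` is FF: the best offenders of `S` on `V*` move `V*` -/
theorem nxtX_Wd [Finite G] (B : RB S) (hr : RR (S : Subgroup G) = ⊥) :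
    ¬ nxtX (S : Subgroup G) (Wd (S : Subgroup G)) ≤ centralizer (Wd (S : Subgroup G) : Set G) := by
  obtain ⟨A, hA, ho⟩ := ffMod_rr B hr
  obtain ⟨A', h1, h2, h3⟩ := exists_best ho
  intro hc
  exact h3 ((le_sSup (show A' ∈ {A | A ≤ (S : Subgroup G) ∧ Best (Wd (S : Subgroup G)) A} from ⟨h1.trans hA, h2⟩)).trans
    (le_sup_right.trans hc))

/-- **THE FRAME OVER `B` AT A GENERAL LEVEL `X`.** -/
theorem exists_frX (B : RB S) (hB : Bks S N E ⊥ Om phi)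
    (irr : ∀ U : Subgroup G, U ≤ Wd (S : Subgroup G) → MZ (S : Subgroup G) ≤ normalizer (U : Set G) → U ≠ ⊥ →
      Wd (S : Subgroup G) ≤ U) {X : Subgroup G} (elX : IsElementaryAbelian 2 X) (VX : Wd (S : Subgroup G) ≤ X)
    (MX : MZ (S : Subgroup G) ≤ normalizer (X : Set G))
    (hz : zc ((S : Subgroup G) ⊓ centralizer (Wd (S : Subgroup G) : Set G)) ≤ X ∨
      zc ((S : Subgroup G) ⊓ centralizer (Wd (S : Subgroup G) : Set G)) ≤ Wd (S : Subgroup G))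
    (hj : ¬ nxtX (S : Subgroup G) X ≤ centralizer (Wd (S : Subgroup G) : Set G)) :
    ∃ (ι : Type) (_ : Finite ι) (L W Z C A : ι → Subgroup G), Nonempty ι ∧
      (∑ i, Fintype.card (Om i)) ≤ 2 * Nat.card ι + Fintype.card I ∧ (∀ i, L i ≤ MZ (S : Subgroup G)) ∧
      FrL (BB (S : Subgroup G) (Wd (S : Subgroup G)) (nxtX (S : Subgroup G) X))
        ((S : Subgroup G) ⊓ centralizer (Wd (S : Subgroup G) : Set G)) (Wd (S : Subgroup G)) X
        (ZJ (Wd (S : Subgroup G)) (nxtX (S : Subgroup G) X)) L W Z C A 2 ∧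
      ∀ i j, ∃ g ∈ MZ (S : Subgroup G),
        g ∈ normalizer (BB (S : Subgroup G) (Wd (S : Subgroup G)) (nxtX (S : Subgroup G) X) : Set G) ∧
          cj g (W i) = W j := by
  have hbd := bd_of B hB
  have hXc : ∀ x ∈ X, ∀ y ∈ X, x * y = y * x := SQ1.Bau.elem_comm elX
  have hm := mvb_of hB ((nxtX_le _ _).trans (S_le_MZ B.ctx B.full)) (all_blocks B hB irr hXc VX MX hj)
  have hl := hbd.lvX elX VX MX hm
  have hzc : Lv.ZcQ (S : Subgroup G) (Wd (S : Subgroup G)) := by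
    rcases hz with hz | hz
    · exact hbd.zcQ_of elX VX MX hm hz
    · exact fun x h1 h2 h3 => hz (mem_zc.2 ⟨h1, h2, fun y hy => (h3 y hy).symm⟩)
  obtain ⟨b⟩ := hB.nonempty
  have : Nonempty (Fin (Fintype.card (Σ i, Om i))) := by
    have h3 := hB.toFull.three b
    obtain ⟨a⟩ : Nonempty (Om b) := Fintype.card_pos_iff.1 (by omega)
    exact ⟨(fP Om).symm ⟨b, a⟩⟩
  obtain ⟨L, W, Z, C, A, h1, h2, h4⟩ := hbd.frX elX VX MX hm hzc ((ofFull hB.toFull).tr_of_irr irr)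
  refine ⟨_, inferInstance, L, W, Z, C, A, ?_, ?_, h1, h2, h4⟩
  · obtain ⟨i, -⟩ := hl.exists_idx (Classical.arbitrary _)
    exact ⟨i⟩
  · have h3 := card_le_idx hl
    rw [Fintype.card_fin, Fintype.card_fin] at h3
    exact (Fintype.card_sigma).ge.trans h3

end box

end Cfsg.Agent.Omega.NOThreeL.RRed.BFr

end

section


/-!
# NO-3L, box R, `q = 2`, one class: THEOREM S''T at the stage `n` (`q = 2`, any number of letters)

* **`false_levT`** : `RB S`, `V*` irreducible, `𝔽₂`-blocks, `|Ω₁Z(S)| ≥ 4`, `V* ≤ Ω₁Z(lev S n)`, `lev S (n+1)` moves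
  every block: contradiction (no LL, no UNI below the level).
-/

set_option autoImplicit false
set_option linter.unusedSectionVars false

namespace Cfsg.Agent.Omega.NOThreeL.RRed.BFr

open Subgroup Cfsg Cfsg.Agent.ZN.ChoiceBase Cfsg.Agent.Omega.MinPar Cfsg.Agent.Omega.Frame
open Cfsg.Agent.ZN (jj zj bau zc zl o2)
open Cfsg.Agent.Omega.NOThreeL.Merge (MZ le_MZ S_le_MZ)
open Cfsg.Agent.Omega.NOThreeL.RTree (RB)
open Cfsg.Agent.Omega.NO3S.Level (lev Lev lev_isLev nxt BO)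
open Cfsg.Agent.Omega.OM.SwapL (BL ZL lb)
open Cfsg.Agent.Omega.OM.Lev.Uni (FrL)
open Cfsg.Agent.Omega.NOThreeL.RRed (Wd zl_le_Wd)
open Cfsg.Agent.Omega.NOThreeL.RRed.FourTree (Bks)
open Cfsg.Agent.Omega.Node.MultiOf (FBl)
open Cfsg.Agent.Omega.Node.MulX (uniTwoX)
open Cfsg.Agent.Omega.EDel (YL le_YL_of)

universe u

variable {G : Type u} [Group G] [Finite G] {S : Sylow 2 G}

/-- UNI+ for `N_G(B)` at the stage `n` -/
theorem uni_levT {ι : Type} [Finite ι] {n : ℕ} {Q V : Subgroup G} {L W Z C A : ι → Subgroup G}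
    (fr : FrL (BL (S : Subgroup G) n) Q V (zc (lev (S : Subgroup G) n)) (ZL (S : Subgroup G) n) L W Z C A 2)
    {g : G} (hg : g ∈ normalizer (BL (S : Subgroup G) n : Set G)) (i : ι) :
    ∃ j, cj g (W i) = W j ∧ cj g (L i) ≤ YL (ZL (S : Subgroup G) n) L j := by
  have hL := lev_isLev (S : Subgroup G) n
  have hX : g ∈ normalizer (zc (lev (S : Subgroup G) n) : Set G) :=
    NO3S.Level.normalizer_le_zc _ (OM.Lev.Wc.norm_B_Lev hL rfl hg)
  have hb : FBl (BL (S : Subgroup G) n) (L i) (W i) :=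
    ⟨⟨_, _, fr.blk i⟩, (fr.blk i).toBlock (fr.cardZ i) (lb S n).Bp (lb S n).weakNormal⟩
  obtain ⟨j, h1, h2⟩ := uniTwoX S hL rfl rfl fr (L' := cj g (L i)) (V' := cj g (W i)) ⟨hb.conj hg, by
    rw [← cj_eq_of_mem_normalizer hX]
    exact cj_mono g ((fr.WV i).trans fr.VX)⟩
  exact ⟨j, h1, le_YL_of h2⟩

/-- `M₀` is generated by minimal parabolics -/
theorem MZ_le_sSup : MZ (S : Subgroup G) ≤ sSup {P : Subgroup G |
    MinSimple.MinParabolic.IsMinPar (S : Subgroup G) P ∧ P ≤ MZ (S : Subgroup G)} :=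
  sSup_le fun P hP => le_sSup ⟨(show IsParS (S : Subgroup G) P from hP).toIsMinPar, le_MZ hP⟩

variable {I : Type u} [Fintype I] [DecidableEq I] {N E : I → Subgroup G} {Om : I → Type u}
  [∀ i, Fintype (Om i)] [∀ i, DecidableEq (Om i)] {phi : ∀ i, Finset (Om i) → G}

/-- **`𝔽₂`-blocks, one class, stage `n`.** -/
theorem false_levT (hML : ML.Final.MLK.{u, u}) (B : RB S) (hB : Bks S N E ⊥ Om phi)
    (h4 : 4 ≤ Nat.card (zc (S : Subgroup G)))
    (irr : ∀ U : Subgroup G, U ≤ Wd (S : Subgroup G) → MZ (S : Subgroup G) ≤ normalizer (U : Set G) → U ≠ ⊥ →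
      Wd (S : Subgroup G) ≤ U) {n : ℕ}
    (hX : Wd (S : Subgroup G) ≤ zc (lev (S : Subgroup G) n))
    (hj : ∀ b, ¬ lev (S : Subgroup G) (n + 1) ≤ centralizer (N b : Set G)) : False := by
  have hG := B.ctx.char2
  have hbd := bd_of B hB
  have hm := mvb_of hB ((NO3S.Level.lev_le _ _).trans (S_le_MZ B.ctx B.full)) hj
  have hK := MZ_norm_lev B hX
  have hl := hbd.lv hX hK hm
  have hzq : Lv.ZcQ (S : Subgroup G) (Wd (S : Subgroup G)) := fun x h1 h2 h3 =>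
    hbd.zcQ_lev hX hK hm (mem_zc.2 ⟨h1, h2, fun y hy => (h3 y hy).symm⟩)
  obtain ⟨Lb, A, h1, -, -, h2⟩ := hl.exists_frL hzq
  have hLM : ∀ i, Lb i ≤ MZ (S : Subgroup G) := fun i => (h1 i).trans (hl.XX_le_M i)
  have eZ : ZJ (Wd (S : Subgroup G)) (lev (S : Subgroup G) (n + 1)) = ZL (S : Subgroup G) n := hbd.ZJ_lev hX hK hm
  have eB : BB (S : Subgroup G) (Wd (S : Subgroup G)) (lev (S : Subgroup G) (n + 1)) = BL (S : Subgroup G) n := by
    rw [BB, eZ]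
    rfl
  have h2' := h2
  rw [eB, eZ] at h2'
  obtain ⟨b⟩ := hB.nonempty
  have hPt : Nonempty (Fin (Fintype.card (Σ i, Om i))) := by
    have h3 := hB.toFull.three b
    obtain ⟨a⟩ : Nonempty (Om b) := Fintype.card_pos_iff.1 (by omega)
    exact ⟨(fP Om).symm ⟨b, a⟩⟩
  have hSZ : (S : Subgroup G) ≤ normalizer (ZL (S : Subgroup G) n : Set G) :=
    (le_normalizer (H := (S : Subgroup G))).trans
      ((lb S n).nrm _ S.isPGroup' (((lb S n).KB.trans (lb S n).eqB.le).trans inf_le_left))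
  refine hl.false_T h2 hML hG B.ctx.kproper ?_ ?_ ?_ ((ofFull hB.toFull).tr_of_irr irr) MZ_le_sSup ?_ h4
  · rw [eB, eZ]
    exact fun R hR hR2 hBR => ((OM.WOneG.syl_B S (lb S n).eqB hSZ).2.2 R hR hR2 hBR).le
  · rw [eB, eZ]
    exact fun g hg i => uni_levT h2' hg i
  · rw [eZ]
    exact fun U hU hD hLU => VSup.nl_lev B h2' hLM hU hD hLU
  · rw [eZ]
    exact (lev_isLev (S : Subgroup G) (n + 1)).zc_le

end Cfsg.Agent.Omega.NOThreeL.RRed.BFr

end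

section


/-!
# NO-3L, box R, `q = 2`, one class, the top level `(Q, V*)`: `⟨C_G(Z_J), L i⟩` is local

`hl : LevX S K V*` (e.g. `K = Q = C_S(V*)`), `Ω₁Z(Q) ≤ V*`, `J = nxtX S V*`, `Z_J = C_{V*}(J)`, `B = C_S(Z_J)`.

* `lev_J`, `ZJ_eq` : `J` is a level, `Z_J = Ω₁(Z(J))`; `norm_B_le` : `N_G(B) ≤ N_G(V*)`; `wc_B`, `syl_B`;
* `uni_top` : UNI+ for `N_G(B)`;
* `false_top` : THEOREM S''T at `(Q, V*)`;
* **`exists_top`** : the frame over `B` and a 2-group `R ≠ 1` normalised by `C_G(Z_J)` and all `L i`; `three` : at least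
  three pairs;
* **`o2_ne_top`** : `O₂(⟨C_G(Z_J), L i⟩) ≠ 1`.
-/

set_option autoImplicit false
set_option linter.unusedSectionVars false

namespace Cfsg.Agent.Omega.NOThreeL.RRed.BFr

open Subgroup Cfsg Cfsg.Agent.ZN.ChoiceBase Cfsg.Agent.Omega.MinPar Cfsg.Agent.Omega.Frame
open Cfsg.Agent.ZN (jj zj bau zc zl o2)
open Cfsg.Agent.Omega.NOThreeL.Merge (MZ le_MZ S_le_MZ)
open Cfsg.Agent.Omega.NOThreeL.RTree (RB)
open Cfsg.Agent.Omega.NO3S.Level (Lev)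
open Cfsg.Agent.Omega.NO3S.OneLine (bo)
open Cfsg.Agent.Omega.OM.Lev.Uni (FrL)
open Cfsg.Agent.Omega.NOThreeL.RZ (RR)
open Cfsg.Agent.Omega.NOThreeL.RRed (Wd zl_le_Wd)
open Cfsg.Agent.Omega.NOThreeL.RRed.FourTree (Bks nxtX LevX)
open Cfsg.Agent.Omega.NOThreeL.RRed.HypJOf (nxtX_le)
open Cfsg.Agent.Omega.Node.MultiOf (FBl)
open Cfsg.Agent.Omega.EDel (YL le_YL_of)

universe u

variable {G : Type u} [Group G]

section lev

variable [Finite G] {S : Sylow 2 G} {K V : Subgroup G}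

/-- `J = nxtX S X` is a level -/
theorem lev_J {X : Subgroup G} (h : LevX (S : Subgroup G) K X) : Lev (S : Subgroup G) (nxtX (S : Subgroup G) X) :=
  RLev.nextX h.toLev h.Xle h.Xn

theorem K_le_J {X : Subgroup G} (h : LevX (S : Subgroup G) K X) : K ≤ nxtX (S : Subgroup G) X :=
  RLev.le_nxtX h.le h.Xle

theorem J_le_BB (S V J : Subgroup G) (hJ : J ≤ S) : J ≤ BB S V J := fun a ha =>
  mem_inf.2 ⟨hJ ha, mem_centralizer_iff.2 fun z hz => (mem_centralizer_iff.1 (mem_inf.1 hz).2 a ha).symm⟩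

/-- `Z_J = Ω₁(Z(J))` -/
theorem ZJ_eq (hV : IsElementaryAbelian 2 V) (hVS : V ≤ (S : Subgroup G))
    (hz : zc ((S : Subgroup G) ⊓ centralizer (V : Set G)) ≤ V) :
    ZJ V (nxtX (S : Subgroup G) V) = zc (nxtX (S : Subgroup G) V) := by
  have hVc : V ≤ centralizer (V : Set G) := fun v hv => mem_centralizer_iff.2 fun w hw =>
    SQ1.Bau.elem_comm hV w hw v hv
  have hQJ : (S : Subgroup G) ⊓ centralizer (V : Set G) ≤ nxtX (S : Subgroup G) V := le_sup_left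
  have hVJ : V ≤ nxtX (S : Subgroup G) V := (le_inf hVS hVc).trans hQJ
  apply le_antisymm
  · intro v hv
    obtain ⟨h1, h2⟩ := mem_inf.1 hv
    refine mem_zc.2 ⟨hVJ h1, SQ1.Bau.elem_sq hV v h1, fun y hy => mem_centralizer_iff.1 h2 y hy⟩
  · intro v hv
    obtain ⟨h1, h2, h3⟩ := mem_zc.1 hv
    have hvQ : v ∈ (S : Subgroup G) ⊓ centralizer (V : Set G) :=
      mem_inf.2 ⟨nxtX_le _ _ h1, mem_centralizer_iff.2 fun w hw => h3 w (hVJ hw)⟩
    exact mem_inf.2 ⟨hz (mem_zc.2 ⟨hvQ, h2, fun y hy => h3 y (hQJ hy)⟩), mem_centralizer_iff.2 fun y hy => h3 y hy⟩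

variable (hl : LevX (S : Subgroup G) K V)
include hl

theorem norm_B_le : normalizer (BB (S : Subgroup G) V (nxtX (S : Subgroup G) V) : Set G) ≤ normalizer (V : Set G) :=
  (hl.norm _ ((K_le_J hl).trans (J_le_BB _ _ _ (nxtX_le _ _))) inf_le_left).trans hl.Xn

theorem wc_B (hV : IsElementaryAbelian 2 V) (hVS : V ≤ (S : Subgroup G))
    (hz : zc ((S : Subgroup G) ⊓ centralizer (V : Set G)) ≤ V) :
    OM.WeakCl.WC (BB (S : Subgroup G) V (nxtX (S : Subgroup G) V)) :=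
  OM.Lev.Wc.wc_cent_Lev (lev_J hl) (by unfold BB; rw [ZJ_eq hV hVS hz])

theorem S_norm_ZJ (hV : IsElementaryAbelian 2 V) (hVS : V ≤ (S : Subgroup G))
    (hz : zc ((S : Subgroup G) ⊓ centralizer (V : Set G)) ≤ V) :
    (S : Subgroup G) ≤ normalizer (ZJ V (nxtX (S : Subgroup G) V) : Set G) := by
  rw [ZJ_eq hV hVS hz]
  exact OM.Lev.Wc.S_norm_Lev (lev_J hl)

/-- `B` is Sylow in `C_G(Z_J)` -/
theorem syl_top (hV : IsElementaryAbelian 2 V) (hVS : V ≤ (S : Subgroup G))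
    (hz : zc ((S : Subgroup G) ⊓ centralizer (V : Set G)) ≤ V) {R : Subgroup G}
    (hR : R ≤ centralizer (ZJ V (nxtX (S : Subgroup G) V) : Set G)) (hR2 : IsPGroup 2 R)
    (hBR : BB (S : Subgroup G) V (nxtX (S : Subgroup G) V) ≤ R) :
    R ≤ BB (S : Subgroup G) V (nxtX (S : Subgroup G) V) :=
  ((OM.WOneG.syl_B S rfl (S_norm_ZJ hl hV hVS hz)).2.2 R hR hR2 hBR).le

/-- **UNI+ for `N_G(B)`** -/
theorem uni_top {ι : Type} [Finite ι] {Q : Subgroup G} {L W Z C A : ι → Subgroup G}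
    (hVS : V ≤ (S : Subgroup G)) (hz : zc ((S : Subgroup G) ⊓ centralizer (V : Set G)) ≤ V)
    (fr : FrL (BB (S : Subgroup G) V (nxtX (S : Subgroup G) V)) Q V V (ZJ V (nxtX (S : Subgroup G) V)) L W Z C A 2)
    {g : G} (hg : g ∈ normalizer (BB (S : Subgroup G) V (nxtX (S : Subgroup G) V) : Set G)) (i : ι) :
    ∃ j, cj g (W i) = W j ∧ cj g (L i) ≤ YL (ZJ V (nxtX (S : Subgroup G) V)) L j := by
  have hwc := wc_B hl fr.elX hVS hz
  have hB : IsPGroup 2 (BB (S : Subgroup G) V (nxtX (S : Subgroup G) V)) := S.isPGroup'.to_le inf_le_left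
  have hp : ∀ g ∈ normalizer (BB (S : Subgroup G) V (nxtX (S : Subgroup G) V) : Set G), ∀ j, ∃ k,
      cj g (Z j) = Z k := by
    intro g hg j
    obtain ⟨k, hk, -⟩ := (fr.norm_of hg (norm_B_le hl hg)).2 j
    exact ⟨k, hk⟩
  have h1 := (fr.blk i).conj g
  rw [cj_eq_of_mem_normalizer hg] at h1
  obtain ⟨-, k, -, -, -, -, h2⟩ := OM.Lev.UniPlus.uniPlusX fr hB hwc hp h1 (by
    rw [← cj_eq_of_mem_normalizer (norm_B_le hl hg)]
    exact cj_mono g (fr.WV i))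
  obtain ⟨h3, h4⟩ := h2 rfl
  exact ⟨k, h3, le_YL_of h4⟩

end lev

section box

variable [Finite G] {S : Sylow 2 G} {I : Type u} [Fintype I] [DecidableEq I] {N E : I → Subgroup G} {Om : I → Type u}
  [∀ i, Fintype (Om i)] [∀ i, DecidableEq (Om i)] {phi : ∀ i, Finset (Om i) → G}

/-- **THE TOP LEVEL**: the frame over `B`, at least three pairs, and `⟨C_G(Z_J), L i⟩` normalises a 2-group `≠ 1`. -/
theorem exists_top (hML : ML.Final.MLK.{u, u}) (B : RB S) (hr : RR (S : Subgroup G) = ⊥) (hB : Bks S N E ⊥ Om phi)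
    (h4 : 4 ≤ Nat.card (zc (S : Subgroup G)))
    (irr : ∀ U : Subgroup G, U ≤ Wd (S : Subgroup G) → MZ (S : Subgroup G) ≤ normalizer (U : Set G) → U ≠ ⊥ →
      Wd (S : Subgroup G) ≤ U) {K : Subgroup G} (hl : LevX (S : Subgroup G) K (Wd (S : Subgroup G)))
    (hz : zc ((S : Subgroup G) ⊓ centralizer (Wd (S : Subgroup G) : Set G)) ≤ Wd (S : Subgroup G)) :
    ∃ (ι : Type) (_ : Finite ι) (L W Z C A : ι → Subgroup G), Nonempty ι ∧ (∀ i j : ι, ∃ l, l ≠ i ∧ l ≠ j) ∧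
      (∀ i, L i ≤ MZ (S : Subgroup G)) ∧
      FrL (BB (S : Subgroup G) (Wd (S : Subgroup G)) (nxtX (S : Subgroup G) (Wd (S : Subgroup G))))
        ((S : Subgroup G) ⊓ centralizer (Wd (S : Subgroup G) : Set G)) (Wd (S : Subgroup G)) (Wd (S : Subgroup G))
        (ZJ (Wd (S : Subgroup G)) (nxtX (S : Subgroup G) (Wd (S : Subgroup G)))) L W Z C A 2 ∧
      (∀ i j, ∃ g ∈ MZ (S : Subgroup G),
        g ∈ normalizer (BB (S : Subgroup G) (Wd (S : Subgroup G))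
          (nxtX (S : Subgroup G) (Wd (S : Subgroup G))) : Set G) ∧ cj g (W i) = W j) ∧
      ∃ R : Subgroup G, R ≠ ⊥ ∧ IsPGroup 2 R ∧
        centralizer (ZJ (Wd (S : Subgroup G)) (nxtX (S : Subgroup G) (Wd (S : Subgroup G))) : Set G) ≤
          normalizer (R : Set G) ∧ ∀ i, L i ≤ normalizer (R : Set G) := by
  have hbd := bd_of B hB
  have elX : IsElementaryAbelian 2 (Wd (S : Subgroup G)) := V_elem (ofFull hB.toFull)
  have hXc := SQ1.Bau.elem_comm elX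
  have MX : MZ (S : Subgroup G) ≤ normalizer (Wd (S : Subgroup G) : Set G) := hl.MX
  have hm := mvb_of hB ((nxtX_le _ _).trans (S_le_MZ B.ctx B.full))
    (all_blocks B hB irr hXc le_rfl MX (nxtX_Wd B hr))
  have hlv := hbd.lvX elX le_rfl MX hm
  have hzc : Lv.ZcQ (S : Subgroup G) (Wd (S : Subgroup G)) := fun x h1 h2 h3 =>
    hz (mem_zc.2 ⟨h1, h2, fun y hy => (h3 y hy).symm⟩)
  obtain ⟨b⟩ := hB.nonempty
  have hPt : Nonempty (Fin (Fintype.card (Σ i, Om i))) := by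
    have h3 := hB.toFull.three b
    obtain ⟨a⟩ : Nonempty (Om b) := Fintype.card_pos_iff.1 (by omega)
    exact ⟨(fP Om).symm ⟨b, a⟩⟩
  obtain ⟨Lb, A, h1, -, -, h2⟩ := hlv.exists_frL hzc
  have tr := (ofFull hB.toFull).tr_of_irr irr
  have hVS := hbd.VS
  have hzZ : zc (S : Subgroup G) ≤ ZJ (Wd (S : Subgroup G)) (nxtX (S : Subgroup G) (Wd (S : Subgroup G))) := fun v hv =>
    mem_inf.2 ⟨hbd.ZV hv, mem_centralizer_iff.2 fun y hy => (mem_zc.1 hv).2.2 y (nxtX_le _ _ hy)⟩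
  obtain ⟨i₀, -⟩ := hlv.exists_idx (Classical.arbitrary _)
  have : Nonempty (Idx (ofFull hB.toFull) (bo (S : Subgroup G) (Wd (S : Subgroup G)))) := ⟨i₀⟩
  refine ⟨_, inferInstance, Lb, hlv.W, _, _, A, ⟨i₀⟩, hlv.three tr hzZ h4, fun i => (h1 i).trans (hlv.XX_le_M i), h2,
    hlv.hM tr, ?_⟩
  by_contra hno
  push Not at hno
  refine hlv.false_T h2 hML B.ctx.char2 B.ctx.kproper (fun R hR hR2 hBR => syl_top hl elX hVS hz hR hR2 hBR)
    (fun g hg i => uni_top hl hVS hz h2 hg i) (fun U hU hD hLU => ?_) tr MZ_le_sSup hzZ h4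
  by_contra hU1
  obtain ⟨i, hi⟩ := hno U hU1 hU hD
  exact hi (hLU i)

/-- **THEOREM S''T at `(Q, V*)`.** -/
theorem false_top (hML : ML.Final.MLK.{u, u}) (B : RB S) (hr : RR (S : Subgroup G) = ⊥) (hB : Bks S N E ⊥ Om phi)
    (h4 : 4 ≤ Nat.card (zc (S : Subgroup G)))
    (irr : ∀ U : Subgroup G, U ≤ Wd (S : Subgroup G) → MZ (S : Subgroup G) ≤ normalizer (U : Set G) → U ≠ ⊥ →
      Wd (S : Subgroup G) ≤ U) {K : Subgroup G} (hl : LevX (S : Subgroup G) K (Wd (S : Subgroup G)))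
    (hz : zc ((S : Subgroup G) ⊓ centralizer (Wd (S : Subgroup G) : Set G)) ≤ Wd (S : Subgroup G))
    (loc : ∀ (ι : Type) (L W Z C A : ι → Subgroup G), Finite ι → Nonempty ι → (∀ i j : ι, ∃ l, l ≠ i ∧ l ≠ j) →
      (∀ i, L i ≤ MZ (S : Subgroup G)) →
      FrL (BB (S : Subgroup G) (Wd (S : Subgroup G)) (nxtX (S : Subgroup G) (Wd (S : Subgroup G))))
        ((S : Subgroup G) ⊓ centralizer (Wd (S : Subgroup G) : Set G)) (Wd (S : Subgroup G)) (Wd (S : Subgroup G))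
        (ZJ (Wd (S : Subgroup G)) (nxtX (S : Subgroup G) (Wd (S : Subgroup G)))) L W Z C A 2 →
      (∀ i j, ∃ g ∈ MZ (S : Subgroup G),
        g ∈ normalizer (BB (S : Subgroup G) (Wd (S : Subgroup G))
          (nxtX (S : Subgroup G) (Wd (S : Subgroup G))) : Set G) ∧ cj g (W i) = W j) →
      ∀ R : Subgroup G, R ≠ ⊥ → IsPGroup 2 R →
        centralizer (ZJ (Wd (S : Subgroup G)) (nxtX (S : Subgroup G) (Wd (S : Subgroup G))) : Set G) ≤
          normalizer (R : Set G) → (∀ i, L i ≤ normalizer (R : Set G)) → False) : False := by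
  obtain ⟨ι, h1, L, W, Z, C, A, h2, h3, h5, h6, h7, R, h8, h9, h10, h11⟩ := exists_top hML B hr hB h4 irr hl hz
  exact loc ι L W Z C A h1 h2 h3 h5 h6 h7 R h8 h9 h10 h11

omit [Finite G] in
/-- a group `H ≥ C_G(Z_J)` normalising a 2-group `R ≠ 1` has `O₂(H) ≠ 1` -/
theorem o2_ne_of [Finite G] {J H R : Subgroup G} {V : Subgroup G} (hV : V ≤ (S : Subgroup G))
    (hVc : ∀ x ∈ V, ∀ y ∈ V, x * y = y * x)
    (hH : centralizer (ZJ V J : Set G) ≤ H) (hR1 : R ≠ ⊥) (hR : IsPGroup 2 R) (hn : H ≤ normalizer (R : Set G)) :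
    o2 H ≠ ⊥ := by
  have hBp : IsPGroup 2 (BB (S : Subgroup G) V J) := S.isPGroup'.to_le inf_le_left
  have hBH : BB (S : Subgroup G) V J ≤ H := inf_le_right.trans hH
  have h1 : zc R ≠ ⊥ := MinSimple.Basic.zc_ne_bot hR hR1
  have hn1 : normalizer (R : Set G) ≤ normalizer (zc R : Set G) := NO3S.Level.normalizer_le_zc _
  obtain ⟨c, hc, hc1, hcB⟩ := exists_fix_ne hBp (C := zc R) (fun c hc => by
    rw [← pow_two]; exact (mem_zc.1 hc).2.1) h1 fun s hs c hc =>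
      (mem_normalizer_iff.1 (hn1 (hn (hBH hs))) c).1 hc
  have hZB : ZJ V J ≤ BB (S : Subgroup G) V J := fun v hv => mem_inf.2 ⟨hV (mem_inf.1 hv).1,
    mem_centralizer_iff.2 fun w hw => hVc w (mem_inf.1 hw).1 v (mem_inf.1 hv).1⟩
  have hcH : c ∈ H := hH (mem_centralizer_iff.2 fun z hz => hcB z (hZB hz))
  have hcR : c ∈ R := (mem_zc.1 hc).1
  have h2 : R ⊓ H ≤ o2 H := by
    refine MinSimple.VModule.le_o2 inf_le_right (hR.to_le inf_le_left) fun g hg => ?_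
    rw [mem_normalizer_iff_cj, cj_inf, cj_eq_of_mem_normalizer (hn hg), cj_eq_of_mem_normalizer (le_normalizer hg)]
  intro e
  rw [e] at h2
  exact hc1 (mem_bot.1 (h2 (mem_inf.2 ⟨hcR, hcH⟩)))

end box

end Cfsg.Agent.Omega.NOThreeL.RRed.BFr

end

section


/-!
# NO-3L, box R, one class, top level `(Q, V*)`, `Q = C_S(V*)`: the frame

`Z_J = Ω₁Z(nxt S Q)` (`ZK S Q`), `B = C_S(Z_J)` (`BK S Q`).

* `nxtX_zc`, `zk_eq`, `bk_eq` : the bridge between `SwapK.{ZK, BK}` and helper947's `BFr.{ZJ, BB}`;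
* **`frLM_top`** : the frame `FrL (BK S Q) Q V* V* (ZK S Q) L W Z C A 2` from the blocks, with `L i ≤ MZ S` and
  `MZ S ∩ N(B)` transitive on the pairs;
* `hall` : `Q ≤ O₂(P)`, `P ∈ P*(S)`; `of_frL`, `wd_eq` : `V* = ⟨V_P⟩`; `low`, **`noff`** : the last fields of helper587's
  `LtV`.
-/

set_option autoImplicit false
set_option linter.unusedSectionVars false

namespace Cfsg.Agent.Omega.NOThreeL.QWR.FrTop

open Subgroup Cfsg Cfsg.Agent.Omega.MinPar Cfsg.Agent.Omega.Frame Cfsg.Agent.Omega.FrameNOFF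
open Cfsg.Agent.ZN.ChoiceBase Cfsg.Agent.ZN.ChoiceSit
open Cfsg.Agent.ZN (zc zl o2 zj bau jj)
open Cfsg.Agent.Omega.NO3S.Level (lev Lev nxt)
open Cfsg.Agent.Omega.OM.SwapK (ZK BK WL)
open Cfsg.Agent.Omega.OM.Uni (FB)
open Cfsg.Agent.Omega.OM.Lev.Uni (FrL)
open Cfsg.Agent.Omega.NOThreeL.RZ (RR)
open Cfsg.Agent.Omega.NOThreeL.RTree (RB)
open Cfsg.Agent.Omega.NOThreeL.Merge (MZ le_MZ S_le_MZ isLoc_MZ)
open Cfsg.Agent.Omega.NOThreeL.RRed (Wd zl_le_Wd wcomm le_norm_Wd)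
open Cfsg.Agent.Omega.NOThreeL.RRed.FourTree (Bks nxtX)
open Cfsg.Agent.Omega.NOThreeL.RRed.BFr (ZJ BB exists_frX nxtX_Wd Noff.comm_T Noff.low)
open Cfsg.Agent.Omega.NOThreeL.RRed.BFr.VSup (Fx)

universe u

variable {G : Type u} [Group G]

/-- `Q = C_S(V*)` -/
abbrev QT (S : Subgroup G) : Subgroup G := S ⊓ centralizer (Wd S : Set G)

theorem nxtX_zc (S K : Subgroup G) : nxtX S (zc K) = nxt S K := rfl

theorem zk_eq {S K V : Subgroup G} [Finite G] (h : Lev S K) (hz : zc K = V) : ZK S K = ZJ V (nxt S K) := by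
  have hKn : K ≤ nxt S K := NO3S.Level.le_nxt h.le
  apply le_antisymm
  · intro x hx
    have h1 : x ∈ zc (nxt S K) := hx
    refine ⟨hz.le (h.zc_le_zc hKn (NO3S.Level.nxt_le _ _) h1), mem_centralizer_iff.2 fun a ha => ?_⟩
    exact (mem_zc.1 h1).2.2 a ha
  · rintro x ⟨hx, hxA⟩
    have h1 := mem_zc.1 (hz.ge hx)
    exact mem_zc.2 ⟨hKn h1.1, h1.2.1, fun a ha => mem_centralizer_iff.1 hxA a ha⟩

theorem bk_eq {S K V : Subgroup G} [Finite G] (h : Lev S K) (hz : zc K = V) : BK S K = BB S V (nxt S K) := by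
  have h1 := zk_eq h hz
  unfold ZK at h1
  unfold BK BB
  rw [h1]

variable [Finite G] {S : Sylow 2 G}

section frame

variable {I : Type u} [Fintype I] [DecidableEq I] {N E : I → Subgroup G} {Om : I → Type u}
  [∀ i, Fintype (Om i)] [∀ i, DecidableEq (Om i)] {phi : ∀ i, Finset (Om i) → G}

/-- **THE FRAME AT `(Q, V*)`.** -/
theorem frLM_top (B : RB S) (hr : RR (S : Subgroup G) = ⊥) (hB : Bks S N E ⊥ Om phi)
    (irr : ∀ U : Subgroup G, U ≤ Wd (S : Subgroup G) → MZ (S : Subgroup G) ≤ normalizer (U : Set G) → U ≠ ⊥ →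
      Wd (S : Subgroup G) ≤ U) (hl : Lev (S : Subgroup G) (QT (S : Subgroup G)))
    (hz : zc (QT (S : Subgroup G)) = Wd (S : Subgroup G)) :
    ∃ (ι : Type) (_ : Finite ι) (L W Z C A : ι → Subgroup G), Nonempty ι ∧
      (∑ i, Fintype.card (Om i)) ≤ 2 * Nat.card ι + Fintype.card I ∧ (∀ i, L i ≤ MZ (S : Subgroup G)) ∧
      FrL (BK (S : Subgroup G) (QT (S : Subgroup G))) (QT (S : Subgroup G)) (Wd (S : Subgroup G)) (Wd (S : Subgroup G))
        (ZK (S : Subgroup G) (QT (S : Subgroup G))) L W Z C A 2 ∧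
      ∀ i j, ∃ g ∈ MZ (S : Subgroup G), g ∈ normalizer (BK (S : Subgroup G) (QT (S : Subgroup G)) : Set G) ∧
        cj g (W i) = W j := by
  have h1 : IsElementaryAbelian 2 (Wd (S : Subgroup G)) := by
    have h2 : IsElementaryAbelian 2 (zc (QT (S : Subgroup G))) := ZN.isElementaryAbelian_zc _
    rwa [hz] at h2
  obtain ⟨ι, i1, L, W, Z, C, A, h2, h3, h4, h5, h6⟩ := exists_frX B hB irr (X := Wd (S : Subgroup G)) h1 le_rfl
    le_norm_Wd (Or.inl hz.le) (nxtX_Wd B hr)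
  have h7 : nxtX (S : Subgroup G) (Wd (S : Subgroup G)) = nxt (S : Subgroup G) (QT (S : Subgroup G)) := by
    rw [← nxtX_zc, hz]
  rw [h7, ← zk_eq hl hz, ← bk_eq hl hz] at h5
  rw [h7, ← bk_eq hl hz] at h6
  exact ⟨ι, i1, L, W, Z, C, A, h2, h3, h4, h5, h6⟩

end frame

section noff

variable {Q : Subgroup G}

/-- `Q ≤ O₂(P)` for all `P ∈ P*(S)`, if `V* ≤ Ω₁Z(Q)` -/
theorem hall (hQ : Q ≤ (S : Subgroup G)) (hX : Wd (S : Subgroup G) ≤ zc Q) :
    ∀ P : Subgroup G, IsParS (S : Subgroup G) P → Q ≤ o2 P := by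
  intro P hP
  refine le_trans ?_ (OM.BlkGen.inf_cent (T := (S : Subgroup G)) (H := P)
    ⟨hP.le, S.isPGroup', fun Q _ hQ hle => S.is_maximal' hQ hle⟩ hP.toIsMinPar
    fun hc => hP.not_zc (hc.trans (centralizer_le_normalizer _)))
  refine le_inf hQ ?_
  rw [← le_centralizer_iff]
  intro v hv
  rw [mem_centralizer_iff]
  intro a ha
  exact (mem_zc.1 (hX (zl_le_Wd hP hv))).2.2 a ha

theorem hblk (R : RB S) (wl : WL S Q) (hX : Wd (S : Subgroup G) ≤ zc Q) :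
    ∀ Y : Subgroup G, IsParS (S : Subgroup G) Y → ¬ nxt (S : Subgroup G) Q ≤ o2 Y →
      ∃ L' V' Z' : Subgroup G, ∃ q' : ℕ, FB (BK (S : Subgroup G) Q) L' V' Z' q' ∧
        (∀ U : Subgroup G, U ≤ V' → L' ≤ normalizer (U : Set G) → U ≤ centralizer (L' : Set G) ∨ V' ≤ U) ∧
        L' ≤ Y ∧ Y ≤ (S : Subgroup G) ⊔ L' := by
  intro Y hY hn
  obtain ⟨L', V', h1, ⟨⟨Z', q', h2⟩, h3⟩, h4⟩ := wl.exists_fblk (T := (S : Subgroup G)) (H := Y)
    ⟨hY.le, S.isPGroup', fun Q _ hQ hle => S.is_maximal' hQ hle⟩ wl.lb.BS hY.toIsMinPar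
    (hY.isLoc.char2 S R.ctx.char2) (hall wl.lev.le hX Y hY) hn
    fun hc => hY.not_zc (hc.trans (centralizer_le_normalizer _))
  exact ⟨L', V', Z', q', h2, h3.irr, h1, h4⟩

variable {ι : Type} [Finite ι] {X : Subgroup G} {L W Z C A : ι → Subgroup G}

theorem of_frL (R : RB S) (wl : WL S Q)
    (fr : FrL (BK (S : Subgroup G) Q) Q (Wd (S : Subgroup G)) X (ZK (S : Subgroup G) Q) L W Z C A 2)
    (hL : ∀ i, L i ≤ MZ (S : Subgroup G)) :
    Fx S (nxt (S : Subgroup G) Q) (BK (S : Subgroup G) Q) (Wd (S : Subgroup G)) (ZK (S : Subgroup G) Q)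
      (MZ (S : Subgroup G)) L W Z C where
  SM := S_le_MZ R.ctx R.full
  MV := le_norm_Wd
  LM := hL
  lb := wl.lb
  wc := wl.wcB
  zcB := fr.zcB
  zcS := wl.lev.next.zc_le
  Vc := wcomm R
  blk := fr.blk
  cardZ := fr.cardZ
  ZJV := fr.ZJV
  Z_le := fr.Z_le
  WV := fr.WV
  CV := fr.CV
  dir := fr.dir
  C0 := fr.C0
  WjC := fr.WjC
  split := fun i z hz => fr.split_ZJ i hz
  LC := fr.LC
  uni := fun L' V' Z' q' hFB hle => by
    obtain ⟨hq, i, hc, hle'⟩ := fr.uni hFB.toMd (hle.trans fr.VX)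
    subst hq
    obtain ⟨hZ, hN⟩ := OM.Lev.UniPlus.nb_of fr hFB hc
    exact ⟨i, hZ, hN, hle'⟩

/-- **`V* = ⟨V_P : P ∈ P*(S)⟩`** -/
theorem wd_eq (R : RB S) (wl : WL S Q) (hX : Wd (S : Subgroup G) ≤ zc Q)
    (fr : FrL (BK (S : Subgroup G) Q) Q (Wd (S : Subgroup G)) X (ZK (S : Subgroup G) Q) L W Z C A 2)
    (hL : ∀ i, L i ≤ MZ (S : Subgroup G)) :
    Wd (S : Subgroup G) = ⨆ P ∈ {P : Subgroup G | IsParS (S : Subgroup G) P}, zl (S : Subgroup G) P :=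
  RRed.BFr.VSup.wd_eq fr.V_eq.le fun i => (of_frL R wl fr hL).exists_Y (isLoc_MZ R.ctx R.full R.data.noff)
    (fun Y hY _ hK => hblk R wl hX Y hY hK) i

/-- `V* ≤ O₂(C_G(Z))` -/
theorem low (R : RB S) (wl : WL S Q) (hX : Wd (S : Subgroup G) ≤ zc Q)
    (fr : FrL (BK (S : Subgroup G) Q) Q (Wd (S : Subgroup G)) X (ZK (S : Subgroup G) Q) L W Z C A 2)
    (hL : ∀ i, L i ≤ MZ (S : Subgroup G)) : Wd (S : Subgroup G) ≤ o2 (centralizer (zc (S : Subgroup G) : Set G)) :=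
  RRed.BFr.Noff.low (PP := {P : Subgroup G | IsParS (S : Subgroup G) P}) R.data.toLow (fun _ hP => hP)
    (wd_eq R wl hX fr hL)

/-- **`V*` commutes with `V*^f` if `V*^f ≤ T`, `V* ≤ T^f`.** -/
theorem noff (R : RB S) (wl : WL S Q) (hX : zc Q = Wd (S : Subgroup G))
    (fr : FrL (BK (S : Subgroup G) Q) Q (Wd (S : Subgroup G)) X (ZK (S : Subgroup G) Q) L W Z C A 2)
    (hL : ∀ i, L i ≤ MZ (S : Subgroup G)) :
    ∀ T : Subgroup G, IsPGroup 2 T → BK (S : Subgroup G) Q ≤ T → ∀ f : G, cj f (Wd (S : Subgroup G)) ≤ T →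
      Wd (S : Subgroup G) ≤ cj f T → ∀ x ∈ Wd (S : Subgroup G), ∀ y ∈ Wd (S : Subgroup G),
        x * (f * y * f⁻¹) = f * y * f⁻¹ * x := by
  intro T hT hB f h1 h2 x hx y hy
  have hN : normalizer (BK (S : Subgroup G) Q : Set G) ≤ normalizer (Wd (S : Subgroup G) : Set G) := by
    rw [← hX]
    exact wl.norm_B.trans (NO3S.Level.normalizer_le_zc _)
  have h3 := RRed.BFr.Noff.comm_T (PP := {P : Subgroup G | IsParS (S : Subgroup G) P}) R.data.toLow (fun _ hP => hP)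
    (wd_eq R wl hX.ge fr hL) wl.wcB wl.lb.BS hN hT hB h1 h2 hx
  exact (mem_centralizer_iff.1 h3 _ ⟨y, hy, rfl⟩).symm

end noff

end Cfsg.Agent.Omega.NOThreeL.QWR.FrTop

end

section


/-!
# NO-3L, box R, one class, the level `(Q, V*)`: the local group `M`

`Q = C_S(V*)`, `J = nxtX S V*`, `Z_J = C_{V*}(J)`, `B = C_S(Z_J)` (`BFr.ZJ`, `BFr.BB` at `X = V*`).

* `TopM S E M` : `M ≥ S` local, `C_G(Z_J), E b, MZ S, N_G(B) ≤ M`, and `⟨V*^F⟩ ≤ O₂(M)` for all `F ≤ C_G(Z)`.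
-/

set_option autoImplicit false

namespace Cfsg.Agent.Omega.NOThreeL.QWR

open Subgroup Cfsg Cfsg.Agent.Omega.MinPar Cfsg.Agent.Omega.Frame Cfsg.Agent.Omega.FrameNOFF
open Cfsg.Agent.ZN (o2 zc zl jj)
open Cfsg.Agent.Omega.NOThreeL.Merge (MZ)
open Cfsg.Agent.Omega.NOThreeL.RRed (Wd)
open Cfsg.Agent.Omega.NOThreeL.RRed.FourTree (nxtX)

universe u

variable {G : Type u} [Group G]

/-- `Z_J = C_{V*}(J)` -/
abbrev ZV (S : Subgroup G) : Subgroup G := RRed.BFr.ZJ (Wd S) (nxtX S (Wd S))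

/-- `B = C_S(Z_J)` -/
abbrev BV (S : Subgroup G) : Subgroup G := RRed.BFr.BB S (Wd S) (nxtX S (Wd S))

/-- The local group at the level `(Q, V*)`. -/
structure TopM [Finite G] (S : Sylow 2 G) {I : Type u} (E : I → Subgroup G) (M : Subgroup G) : Prop where
  loc : IsLoc (S : Subgroup G) M
  cz : centralizer (ZV (S : Subgroup G) : Set G) ≤ M
  E : ∀ b, E b ≤ M
  Y : MZ (S : Subgroup G) ≤ M
  nb : normalizer (BV (S : Subgroup G) : Set G) ≤ M
  U : ∀ F : Subgroup G, F ≤ CZ (S : Subgroup G) → NoFF.Basic.V (Wd (S : Subgroup G)) F ≤ o2 M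

end Cfsg.Agent.Omega.NOThreeL.QWR

end

section


/-!
# Box R, not (A): `V* ≤ O₂(C_G(z))` for ONE `1 ≠ z ∈ Z`

* `isLong_cent` : `C_G(z)` is long; `WP_le_z` : all lines on `Z` lie in `O₂(C_G(z))`;
* **`lowz_of`** : `V* ≤ O₂(C_G(z))` if `V* = ⟨V_P⟩`; **`lowz`** : over the frame at `(Q, V*)` (`FrTop.wd_eq`).
-/

set_option autoImplicit false
set_option linter.unusedSectionVars false

namespace Cfsg.Agent.Omega.NOThreeL.QWR.LowZ

open Subgroup Cfsg Cfsg.Agent.Omega.MinPar Cfsg.Agent.Omega.Frame Cfsg.Agent.Omega.FrameNOFF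
open Cfsg.Agent.ZN (o2 zc zl)
open Cfsg.Agent.Omega.Node.NO3L Cfsg.Agent.Omega.NOThreeL.Basic
open Cfsg.Agent.Omega.NOThreeL.RTree (RB)
open Cfsg.Agent.Omega.NOThreeL.Merge (MZ)
open Cfsg.Agent.Omega.NOThreeL.RRed (Wd)
open Cfsg.Agent.Omega.OM.SwapK (ZK BK WL)
open Cfsg.Agent.Omega.OM.Lev.Uni (FrL)

universe u

variable {G : Type u} [Group G] [Finite G] {S : Sylow 2 G}

/-- `C_G(z)` is long for `1 ≠ z ∈ Z`. -/
theorem isLong_cent {z : G} (hz : z ∈ zc (S : Subgroup G)) (hz1 : z ≠ 1) :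
    IsLong (S : Subgroup G) (centralizer ({z} : Set G)) :=
  ⟨RZ.LowR.isLoc_cent hz hz1, centralizer_le (Set.singleton_subset_iff.2 hz)⟩

theorem WP_le_z (B : RB S) {z : G} (hz : z ∈ zc (S : Subgroup G)) (hz1 : z ≠ 1) :
    WP (S : Subgroup G) ≤ o2 (centralizer ({z} : Set G)) :=
  (WP_le_FH _ _).trans (NotA.FH_le_o2 B.data B.notA (isLong_cent hz hz1))

/-- `V* ≤ O₂(C_G(z))` if `V* = ⟨V_P : P ∈ PP⟩`, `PP ⊆ P*(S)`. -/
theorem lowz_of (B : RB S) {PP : Set (Subgroup G)} (hPP : ∀ P ∈ PP, IsParS (S : Subgroup G) P)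
    (hV : Wd (S : Subgroup G) = ⨆ P ∈ PP, zl (S : Subgroup G) P) :
    ∀ z ∈ zc (S : Subgroup G), z ≠ 1 → Wd (S : Subgroup G) ≤ o2 (centralizer ({z} : Set G)) := by
  intro z hz hz1
  rw [hV]
  exact iSup₂_le fun P hP => (zl_le_WP (hPP P hP)).trans (WP_le_z B hz hz1)

variable {Q : Subgroup G} {ι : Type} [Finite ι] {X : Subgroup G} {L W Z C A : ι → Subgroup G}

/-- **`V* ≤ O₂(C_G(z))` for all `1 ≠ z ∈ Z`**, over the frame at `(Q, V*)`. -/
theorem lowz (R : RB S) (wl : WL S Q) (hX : Wd (S : Subgroup G) ≤ zc Q)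
    (fr : FrL (BK (S : Subgroup G) Q) Q (Wd (S : Subgroup G)) X (ZK (S : Subgroup G) Q) L W Z C A 2)
    (hL : ∀ i, L i ≤ MZ (S : Subgroup G)) :
    ∀ z ∈ zc (S : Subgroup G), z ≠ 1 → Wd (S : Subgroup G) ≤ o2 (centralizer ({z} : Set G)) :=
  lowz_of (PP := {P : Subgroup G | IsParS (S : Subgroup G) P}) R (fun _ hP => hP) (FrTop.wd_eq R wl hX fr hL)

end Cfsg.Agent.Omega.NOThreeL.QWR.LowZ

end
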