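import Cfsg.Agent.Mrg.Omega.OM.SwapV.Lv.Frame
import Cfsg.Agent.Mrg.Omega.OM.SwapV.NegPair
import Cfsg.Agent.Mrg.Omega.Node.NO3L


/-!
# NO-3L, box R: `noff` and `low` for `V = ⟨V_P : P ∈ PP⟩`, `PP ⊆ P*(S)`

No mutual pair of lines, all lines in `O₂(C_G(Z))` (`DataLow S`).

* `comm_S` : `V^g ≤ S`, `V ≤ S^g` ⟹ `[V, V^g] = 1`;
* `exists_m` : a 2-group `T ≥ B` lies in `S^m`, `m ∈ N_G(B)` (`B` weakly closed);
* `comm_T` : the same with a 2-group `T ≥ B` for `S`, if `N_G(B) ≤ N_G(V)`;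
* `of_data` : the ground frame `LnV` (levels) from `FrL`; `neg_of_data` : the ground frame `LineV` (stage `-1`) from `Fr`.
-/

set_option autoImplicit false
set_option linter.unusedSectionVars false

namespace Cfsg.Agent.Omega.NOThreeL.RRed.BFr.Noff

open Subgroup Cfsg Cfsg.Agent.Omega.MinPar Cfsg.Agent.Omega.Frame Cfsg.Agent.ZN.ChoiceBase Cfsg.Agent.ZN.ChoiceSit
open Cfsg.Agent.ZN (zc zl o2 zj bau)
open Cfsg.Agent.Omega.OM.SwapV
open Cfsg.Agent.Omega.NO3S.Level (lev)
open Cfsg.Agent.Omega.OM.SwapL (ZL BL lb)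
open Cfsg.Agent.Omega.OM.SwapV.Lv (LnV)
open Cfsg.Agent.Omega.OM.WeakCl (WC)
open Cfsg.Agent.Omega.OM.Lev.Uni (FrL)
open Cfsg.Agent.Omega.Node.NO3L (DataLow)

universe u

variable {G : Type u} [Group G] [Finite G] {S : Sylow 2 G} {V : Subgroup G} {PP : Set (Subgroup G)}

theorem low (D : DataLow (S : Subgroup G)) (hPP : ∀ P ∈ PP, IsParS (S : Subgroup G) P)
    (hV : V = ⨆ P ∈ PP, zl (S : Subgroup G) P) : V ≤ o2 (centralizer (zc (S : Subgroup G) : Set G)) := by
  rw [hV]
  exact iSup₂_le fun P hP => D.low P (hPP P hP)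

theorem comm_S (D : DataLow (S : Subgroup G)) (hPP : ∀ P ∈ PP, IsParS (S : Subgroup G) P)
    (hV : V = ⨆ P ∈ PP, zl (S : Subgroup G) P) {g : G} (h1 : cj g V ≤ (S : Subgroup G))
    (h2 : V ≤ cj g (S : Subgroup G)) : V ≤ centralizer (cj g V : Set G) := by
  have hle : ∀ P ∈ PP, zl (S : Subgroup G) P ≤ V := fun P hP => by
    rw [hV]; exact le_iSup₂ (f := fun P (_ : P ∈ PP) => zl (S : Subgroup G) P) P hP
  have hN : ∀ P ∈ PP, (S : Subgroup G) ≤ normalizer (zl (S : Subgroup G) P : Set G) := fun P hP =>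
    (hPP P hP).le.trans (MinSimple.VModule.le_normalizer_zl _ P)
  have key : ∀ P ∈ PP, ∀ R ∈ PP, zl (S : Subgroup G) P ≤ centralizer (cj g (zl (S : Subgroup G) R) : Set G) := by
    intro P hP R hR
    have k1 : zl (S : Subgroup G) P ≤ normalizer ((cj g (zl (S : Subgroup G) R) : Subgroup G) : Set G) := by
      have h3 := cj_mono g (hN R hR)
      rw [cj_normalizer] at h3
      exact ((hle P hP).trans h2).trans h3
    have k2 : cj g (zl (S : Subgroup G) R) ≤ normalizer (zl (S : Subgroup G) P : Set G) :=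
      ((cj_mono g (hle R hR)).trans h1).trans (hN P hP)
    by_contra hne
    exact D.noff ⟨P, R, g, hPP P hP, hPP R hR, k1, k2, fun e => hne (commutator_eq_bot_iff_le_centralizer.1 e)⟩
  have h3 : cj g V ≤ centralizer (V : Set G) := by
    have e : cj g V = ⨆ P ∈ PP, cj g (zl (S : Subgroup G) P) := by
      rw [hV]
      simp only [Subgroup.map_iSup]
    rw [e]
    refine iSup₂_le fun R hR => ?_
    rw [← le_centralizer_iff]
    rw [hV]
    exact iSup₂_le fun P hP => key P hP R hR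
  rwa [le_centralizer_iff]

omit [Finite G] in
theorem exists_m [Finite G] {B : Subgroup G} (hWC : WC B) (hBS : B ≤ (S : Subgroup G)) {T : Subgroup G}
    (hT : IsPGroup 2 T) (hB : B ≤ T) : ∃ m ∈ normalizer (B : Set G), T ≤ cj m (S : Subgroup G) := by
  obtain ⟨S', hS'⟩ := hT.exists_le_sylow
  obtain ⟨g, hg⟩ := MulAction.exists_smul_eq G S S'
  have hg2 : (S' : Subgroup G) = cj g (S : Subgroup G) := by
    rw [← hg, Sylow.coe_subgroup_smul]
    rfl
  refine ⟨g, ?_, hS'.trans hg2.le⟩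
  have h1 : cj g⁻¹ B ≤ (S : Subgroup G) := by
    have := cj_mono g⁻¹ ((hB.trans hS').trans hg2.le)
    rwa [cj_inv_cj] at this
  have h2 := hWC _ S.isPGroup' hBS _ h1
  have h3 := inv_mem (mem_normalizer_iff_cj.2 h2)
  rwa [inv_inv] at h3

theorem comm_T (D : DataLow (S : Subgroup G)) (hPP : ∀ P ∈ PP, IsParS (S : Subgroup G) P)
    (hV : V = ⨆ P ∈ PP, zl (S : Subgroup G) P) {B : Subgroup G} (hWC : WC B) (hBS : B ≤ (S : Subgroup G))
    (hN : normalizer (B : Set G) ≤ normalizer (V : Set G)) {T : Subgroup G} (hT : IsPGroup 2 T) (hB : B ≤ T)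
    {f : G} (h1 : cj f V ≤ T) (h2 : V ≤ cj f T) : V ≤ centralizer (cj f V : Set G) := by
  obtain ⟨m, hm, hTm⟩ := exists_m hWC hBS hT hB
  have hmV : cj m V = V := cj_eq_of_mem_normalizer (hN hm)
  have hmV' : cj m⁻¹ V = V := cj_eq_of_mem_normalizer (inv_mem (hN hm))
  have e : cj (m⁻¹ * f * m) V = cj m⁻¹ (cj f V) := by
    rw [← cj_cj, ← cj_cj, hmV]
  have k1 : cj (m⁻¹ * f * m) V ≤ (S : Subgroup G) := by
    rw [e]
    have := cj_mono m⁻¹ (h1.trans hTm)
    rwa [cj_inv_cj] at this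
  have k2 : V ≤ cj (m⁻¹ * f * m) (S : Subgroup G) := by
    have h3 := cj_mono m⁻¹ (h2.trans (cj_mono f hTm))
    rwa [hmV', cj_cj, cj_cj] at h3
  have h4 := cj_mono m (comm_S D hPP hV k1 k2)
  rwa [hmV, cj_centralizer, e, cj_cj_inv] at h4

/-- **The ground frame at the levels in box R.** -/
theorem of_data {ι : Type} [Finite ι] {Q : Subgroup G} {n : ℕ} {L W Z C A : ι → Subgroup G}
    (hG : IsCharacteristicTwoType G) (D : DataLow (S : Subgroup G)) (hPP : ∀ P ∈ PP, IsParS (S : Subgroup G) P)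
    (hV : V = ⨆ P ∈ PP, zl (S : Subgroup G) P)
    (fr : FrL (BL (S : Subgroup G) n) Q V (zc (lev (S : Subgroup G) n)) (ZL (S : Subgroup G) n) L W Z C A 2)
    (levQ : lev (S : Subgroup G) n ≤ Q) : LnV S V Q n L W Z C A where
  fr := fr
  levQ := levQ
  char2 := hG
  low := low D hPP hV
  noff := fun T hT hB f h1 h2 x hx y hy => by
    have hN : normalizer (BL (S : Subgroup G) n : Set G) ≤ normalizer (V : Set G) := fun g hg => by
      rw [mem_normalizer_iff_cj]
      exact (fr.norm_of hg (NO3S.Level.normalizer_le_zc _ (OM.SwapL.norm_lev S (by omega) hg))).1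
    have h3 := comm_T D hPP hV (OM.SwapL.wc S n) (lb S n).BS hN hT hB h1 h2 hx
    exact (mem_centralizer_iff.1 h3 _ ⟨y, hy, rfl⟩).symm

/-- **The ground frame at stage `-1` in box R.** -/
theorem neg_of_data {ι : Type} [Finite ι] {Q : Subgroup G} {L W Z C A : ι → Subgroup G} {q : ℕ}
    (hG : IsCharacteristicTwoType G) (hne : (S : Subgroup G) ≠ ⊥) (D : DataLow (S : Subgroup G))
    (hPP : ∀ P ∈ PP, IsParS (S : Subgroup G) P) (hV : V = ⨆ P ∈ PP, zl (S : Subgroup G) P)
    (fr : Cfsg.Agent.Omega.OM.Uni.Fr (bau (S : Subgroup G)) Q V (zj (S : Subgroup G)) L W Z C A q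
      (mm (S : Subgroup G)))
    (two : ∀ i : ι, ∃ j, j ≠ i) : NegPair.LineV S Q V L W Z C A q where
  ch := hG
  ne := hne
  low := low D hPP hV
  fr := fr
  two := two
  nff := fun T hT hB g h1 h2 x hx y hy => by
    have hVB : V ≤ bau (S : Subgroup G) := fr.VQ.trans fr.QB
    have hN : normalizer (bau (S : Subgroup G) : Set G) ≤ normalizer (V : Set G) := fun g hg => by
      have hgB := cj_eq_of_mem_normalizer hg
      rw [mem_normalizer_iff_cj]
      refine (fr.norm_of hg fun w hw v hv => ?_).1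
      have k1 : cj g V ≤ (S : Subgroup G) := by
        have := cj_mono g hVB
        rw [hgB] at this
        exact this.trans (bau_le _)
      have k2 : V ≤ cj g (S : Subgroup G) := by
        have := cj_mono g (bau_le (S : Subgroup G))
        rw [hgB] at this
        exact hVB.trans this
      exact mem_centralizer_iff.1 (comm_S D hPP hV k1 k2 hv) w hw
    have h3 := comm_T D hPP hV (OM.UniPlus.wc_bau S) (bau_le _) hN hT hB h1 h2 hx
    exact (mem_centralizer_iff.1 h3 _ hy).symm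

end Cfsg.Agent.Omega.NOThreeL.RRed.BFr.Noff
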