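import Cfsg.Agent.Mrg.Omega.NOThreeL.RRed.BFr.Off


/-!
# NO-3L, box R: the index set of the pairs, the four-groups, `Z_J`, `B`

`h : Lv S D X L J AA`:

* `oo h x` : the letter of the block of `x` in no pair;
* `Idx D AA` : the pairs `{X i, Y i}`; `h.cover`;
* `h.W i`, `h.C i`, `h.d i` ; `ZJ V J = C_V(J)`, `B = C_S(ZJ)`;
* `h.mem_ZJ_iff` : `v ∈ ZJ` iff the coordinates of `v` are equal on every pair; `h.r_un`: elements preserving all pairs fix
  the letters `oo`; `h.B_move` : `B` acts as a product of the transpositions;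
* `h.syl_B` : `B` is a Sylow 2-subgroup of `C_M(ZJ)`.
-/

set_option autoImplicit false
set_option linter.unusedSectionVars false

namespace Cfsg.Agent.Omega.NOThreeL.RRed.BFr

open Subgroup Cfsg Cfsg.Agent.ZN Cfsg.Agent.ZN.ChoiceBase
open Cfsg.Agent.Omega.SQ1.Bau (mem_sup_comm card_sup_comm elem_comm elem_sq)
open Cfsg.Agent.Omega.OM.Lev.Uni (Best)
open Cfsg.Agent.Omega.FFThm (ElemM)
open Cfsg.Agent.Omega.NO3S.OneLine (BFam)

universe u

variable {G : Type u} [Group G]

/-- `C_V(J)` -/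
def ZJ (V J : Subgroup G) : Subgroup G := V ⊓ centralizer (J : Set G)

/-- `C_S(C_V(J))` -/
def BB (S V J : Subgroup G) : Subgroup G := S ⊓ centralizer (ZJ V J : Set G)

section idx

variable {M V : Subgroup G} {Pt I : Type} [Fintype Pt] [DecidableEq Pt] [DecidableEq I]

/-- The pairs. -/
def Idx (D : Pts M V Pt I) (AA : Set (Subgroup G)) : Type := {s : Finset Pt // ∃ x y, Lv.Pr D AA x y ∧ s = {x, y}}

instance (D : Pts M V Pt I) (AA : Set (Subgroup G)) : Finite (Idx D AA) := by unfold Idx; infer_instance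

variable {D : Pts M V Pt I} {AA : Set (Subgroup G)}

noncomputable def xx (i : Idx D AA) : Pt := i.2.choose

noncomputable def yy (i : Idx D AA) : Pt := i.2.choose_spec.choose

theorem pr_i (i : Idx D AA) : Lv.Pr D AA (xx i) (yy i) := i.2.choose_spec.choose_spec.1

theorem val_i (i : Idx D AA) : i.1 = {xx i, yy i} := i.2.choose_spec.choose_spec.2

theorem ne_i (i : Idx D AA) : xx i ≠ yy i := (pr_i i).1

theorem blk_i (i : Idx D AA) : D.blk (xx i) = D.blk (yy i) := (pr_i i).2.1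

/-- `x` is a letter of the pair `i` -/
def Mem (i : Idx D AA) (x : Pt) : Prop := x = xx i ∨ x = yy i

theorem Mem.blk {i : Idx D AA} {x : Pt} (h : Mem i x) : D.blk x = D.blk (xx i) := by
  rcases h with rfl | rfl
  · rfl
  · exact (blk_i i).symm

end idx

namespace Lv

variable {S : Sylow 2 G} {M V : Subgroup G} {Pt I : Type} [Fintype Pt] [DecidableEq Pt] [DecidableEq I]
variable {D : Pts M V Pt I} {X L J : Subgroup G} {AA : Set (Subgroup G)} (h : Lv S D X L J AA)
include h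

variable [Finite G]

theorem mem_of_pr {x y : Pt} (hp : Pr D AA x y) : ∃ i : Idx D AA, Mem i x ∧ Mem i y := by
  let i : Idx D AA := ⟨{x, y}, x, y, hp, rfl⟩
  refine ⟨i, ?_, ?_⟩
  · have h1 : x ∈ i.1 := Finset.mem_insert_self _ _
    rw [val_i i, Finset.mem_insert, Finset.mem_singleton] at h1
    exact h1
  · have h1 : y ∈ i.1 := Finset.mem_insert_of_mem (Finset.mem_singleton_self _)
    rw [val_i i, Finset.mem_insert, Finset.mem_singleton] at h1
    exact h1

theorem partner {i : Idx D AA} {x y : Pt} (hx : Mem i x) (hp : Pr D AA x y) : Mem i y := by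
  rcases hx with rfl | rfl
  · right; exact h.Pr_unique hp (pr_i i)
  · left; exact h.Pr_unique hp (pr_i i).symm

theorem mem_inj {i j : Idx D AA} {x : Pt} (hi : Mem i x) (hj : Mem j x) : i = j := by
  have key : ∀ {i j : Idx D AA} {x : Pt}, Mem i x → Mem j x → ∀ z, Mem i z → Mem j z := by
    intro i j x hi hj z hz
    by_cases hzx : z = x
    · rw [hzx]; exact hj
    · refine h.partner hj ?_
      rcases hi with rfl | rfl
      · rcases hz with rfl | rfl
        · exact absurd rfl hzx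
        · exact pr_i i
      · rcases hz with rfl | rfl
        · exact (pr_i i).symm
        · exact absurd rfl hzx
  apply Subtype.ext
  rw [val_i i, val_i j]
  ext z
  simp only [Finset.mem_insert, Finset.mem_singleton]
  exact ⟨key hi hj z, key hj hi z⟩

/-- the letter of the block of `x` which lies in no pair -/
noncomputable def oo (x : Pt) : Pt := (h.exists_un x).choose

theorem oo_blk (x : Pt) : D.blk (h.oo x) = D.blk x := (h.exists_un x).choose_spec.1

theorem oo_un (x : Pt) : ∀ y, ¬ Pr D AA (h.oo x) y := (h.exists_un x).choose_spec.2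

theorem oo_not_mem (x : Pt) (i : Idx D AA) : ¬ Mem i (h.oo x) := by
  rintro (e | e)
  · exact h.oo_un x _ (e ▸ pr_i i)
  · exact h.oo_un x _ (e ▸ (pr_i i).symm)

theorem eq_oo {u x : Pt} (hu : ∀ y, ¬ Pr D AA u y) (hb : D.blk u = D.blk x) : u = h.oo x :=
  h.un_unique (hb.trans (h.oo_blk x).symm) hu (h.oo_un x)

theorem cover (x : Pt) : x = h.oo x ∨ ∃ i : Idx D AA, Mem i x := by
  by_cases hx : ∀ y, ¬ Pr D AA x y
  · exact Or.inl (h.eq_oo hx rfl)
  · push Not at hx
    obtain ⟨y, hy⟩ := hx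
    obtain ⟨i, hi, -⟩ := h.mem_of_pr hy
    exact Or.inr ⟨i, hi⟩

theorem oo_congr {x y : Pt} (hb : D.blk x = D.blk y) : h.oo x = h.oo y :=
  h.eq_oo (h.oo_un x) ((h.oo_blk x).trans hb)

/-- every block contains a pair -/
theorem exists_idx (x : Pt) : ∃ i : Idx D AA, D.blk (xx i) = D.blk x := by
  obtain ⟨y, hy, A, hA, a, ha, hay⟩ := h.mv x
  obtain ⟨i, hi, -⟩ := h.mem_of_pr (h.pr_of_move hA ha hay)
  exact ⟨i, hi.blk.symm.trans hy⟩

/-! ### `Z_J` -/

omit h in
theorem mem_ZJ {v : G} : v ∈ ZJ V J ↔ v ∈ V ∧ ∀ y ∈ J, y * v = v * y := by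
  rw [ZJ, mem_inf, mem_centralizer_iff]; rfl

/-- `J` acts as products of the transpositions, all transpositions are induced -/
theorem mem_ZJ_iff {v : G} (hv : v ∈ V) : v ∈ ZJ V J ↔ ∀ i : Idx D AA, D.e v (xx i) = D.e v (yy i) := by
  rw [mem_ZJ]
  constructor
  · rintro ⟨-, hc⟩ i
    obtain ⟨-, -, a, ha, e⟩ := pr_i i
    have h1 := (D.comm_iff (h.J0M ha) hv).1 (hc a (h.J0_le_J ha)) (xx i)
    rw [e, Equiv.swap_apply_left] at h1
    exact h1.symm
  · intro hc
    refine ⟨hv, fun a ha => (D.comm_iff (h.SM (h.JS ha)) hv).2 fun x => ?_⟩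
    rcases h.J_move ha x with h1 | h1
    · rw [h1]
    · obtain ⟨i, hi, hj⟩ := h.mem_of_pr h1
      have h2 := hc i
      rcases hi with e1 | e1 <;> rcases hj with e2 | e2
      · rw [e2]; rw [e1] at *
      · rw [e2, e1, h2]
      · rw [e2, e1, h2]
      · rw [e2, ← e1]

theorem ZJ_eq_J0 : ZJ V J = V ⊓ centralizer ((sSup AA : Subgroup G) : Set G) := by
  apply le_antisymm
  · exact inf_le_inf_left _ (centralizer_le h.J0_le_J)
  · rintro v ⟨hv, hc⟩
    rw [h.mem_ZJ_iff hv]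
    intro i
    obtain ⟨-, -, a, ha, e⟩ := pr_i i
    have h1 := (D.comm_iff (h.J0M ha) hv).1 (mem_centralizer_iff.1 hc a ha) (xx i)
    rw [e, Equiv.swap_apply_left] at h1
    exact h1.symm

omit [Finite G] in
theorem d_mem (i : Idx D AA) : D.pe (xx i) (yy i) ∈ V := D.pe_mem _ _

theorem d_ZJ (i : Idx D AA) : D.pe (xx i) (yy i) ∈ ZJ V J := by
  rw [h.mem_ZJ_iff (D.pe_mem _ _)]
  intro j
  rw [D.e_pe' (blk_i i), D.e_pe' (blk_i i)]
  by_cases hij : i = j
  · subst hij
    simp [ne_i i, (ne_i i).symm]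
  · have c1 : ∀ z, Mem j z → z ≠ xx i ∧ z ≠ yy i := fun z hz =>
      ⟨fun e => hij (h.mem_inj (Or.inl e) hz), fun e => hij (h.mem_inj (Or.inr e) hz)⟩
    obtain ⟨a1, a2⟩ := c1 (xx j) (Or.inl rfl)
    obtain ⟨b1, b2⟩ := c1 (yy j) (Or.inr rfl)
    rw [if_neg a1, if_neg a2, if_neg b1, if_neg b2]

/-- `m` preserves every pair -/
def Pp (D : Pts M V Pt I) (AA : Set (Subgroup G)) (m : G) : Prop := ∀ i : Idx D AA, ∀ x, Mem i x → Mem i (D.r m x)

omit h [Finite G] in
theorem Pp.mem_inv {m : G} (hm : Pp D AA m) {i : Idx D AA} {x : Pt} (hx : Mem i (D.r m x)) : Mem i x := by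
  -- `r m` is injective on the pair
  have h1 := hm i (xx i) (Or.inl rfl)
  have h2 := hm i (yy i) (Or.inr rfl)
  have hne : D.r m (xx i) ≠ D.r m (yy i) := fun e => ne_i i ((D.r m).injective e)
  rcases hx with e | e
  · rcases h1 with e1 | e1
    · left; exact (D.r m).injective (e.trans e1.symm)
    · rcases h2 with e2 | e2
      · right; exact (D.r m).injective (e.trans e2.symm)
      · exact absurd (e1.trans e2.symm) hne
  · rcases h1 with e1 | e1
    · rcases h2 with e2 | e2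
      · exact absurd (e1.trans e2.symm) hne
      · right; exact (D.r m).injective (e.trans e2.symm)
    · left; exact (D.r m).injective (e.trans e1.symm)

theorem Pp_blk {m : G} (hmM : m ∈ M) (hm : Pp D AA m) (x : Pt) : D.blk (D.r m x) = D.blk x := by
  obtain ⟨i, hi⟩ := h.exists_idx x
  have h1 := D.r_blk hmM hi
  rw [← h1, (hm i (xx i) (Or.inl rfl)).blk, hi]

/-- elements preserving the pairs fix the letters `oo` -/
theorem Pp_oo {m : G} (hmM : m ∈ M) (hm : Pp D AA m) (x : Pt) : D.r m (h.oo x) = h.oo x := by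
  refine h.eq_oo (fun y hy => ?_) ((h.Pp_blk hmM hm _).trans (h.oo_blk x))
  obtain ⟨i, hi, -⟩ := h.mem_of_pr hy
  exact h.oo_not_mem x i (hm.mem_inv hi)

theorem Pp_of_comm {m : G} (hmM : m ∈ M) (hm : ∀ i : Idx D AA, m * D.pe (xx i) (yy i) = D.pe (xx i) (yy i) * m) :
    Pp D AA m := by
  intro i x hx
  have h1 := h.of_pe_comm (blk_i i) (ne_i i) hmM (hm i)
  rcases hx with rfl | rfl
  · exact h1.1
  · exact h1.2.symm

theorem Pp_of_ZJ {m : G} (hmM : m ∈ M) (hm : ∀ z ∈ ZJ V J, m * z = z * m) : Pp D AA m :=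
  h.Pp_of_comm hmM fun i => hm _ (h.d_ZJ i)

theorem ZJ_of_Pp {m : G} (hmM : m ∈ M) (hm : Pp D AA m) {z : G} (hz : z ∈ ZJ V J) : m * z = z * m := by
  have hzV : z ∈ V := hz.1
  rw [D.comm_iff hmM hzV]
  rw [h.mem_ZJ_iff hzV] at hz
  intro x
  rcases h.cover x with hx | ⟨i, hi⟩
  · have h1 := h.Pp_oo hmM hm x
    rw [← hx] at h1
    rw [h1]
  · have h1 := hm i x hi
    have h2 := hz i
    rcases hi with e1 | e1 <;> rcases h1 with e2 | e2
    · rw [e2, ← e1]
    · rw [e2, e1, h2]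
    · rw [e2, e1, h2]
    · rw [e2, ← e1]

omit h [Finite G] in
theorem mem_BB {S V J : Subgroup G} {x : G} : x ∈ BB S V J ↔ x ∈ S ∧ ∀ z ∈ ZJ V J, x * z = z * x := by
  rw [BB, mem_inf, mem_centralizer_iff]
  exact and_congr_right fun _ => ⟨fun h z hz => (h z hz).symm, fun h z hz => (h z hz).symm⟩

theorem B_Pp {b : G} (hb : b ∈ BB (S : Subgroup G) V J) : Pp D AA b :=
  h.Pp_of_ZJ (h.SM hb.1) (mem_BB.1 hb).2

theorem J_le_B : J ≤ BB (S : Subgroup G) V J := fun a ha =>
  mem_BB.2 ⟨h.JS ha, fun _ hz => (mem_ZJ.1 hz).2 a ha⟩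

theorem J0_le_B : sSup AA ≤ BB (S : Subgroup G) V J := h.J0_le_J.trans h.J_le_B

theorem V_le_B : V ≤ BB (S : Subgroup G) V J := fun _ hv => mem_BB.2 ⟨h.VS hv, fun _ hz => D.comm hv hz.1⟩

theorem B_le_M : BB (S : Subgroup G) V J ≤ M := fun _ hb => h.SM hb.1

theorem norm_ZJ {m : G} (hm : m ∈ M) (hJ : cj m (sSup AA) = sSup AA) : cj m (ZJ V J) = ZJ V J := by
  rw [h.ZJ_eq_J0, cj_inf, cj_centralizer, hJ]
  have : cj m V = V := by
    refine Subgroup.eq_of_le_of_card_ge ?_ (by rw [card_cj])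
    rintro _ ⟨v, hv, rfl⟩
    exact D.MV m hm v hv
  rw [this]

/-- **`B` is a Sylow 2-subgroup of `C_M(Z_J)`.** -/
theorem syl_B {T : Subgroup G} (hT : IsPGroup 2 T) (hTM : T ≤ M) (hBT : BB (S : Subgroup G) V J ≤ T)
    (hTc : ∀ t ∈ T, ∀ z ∈ ZJ V J, t * z = z * t) : T = BB (S : Subgroup G) V J := by
  obtain ⟨m, hm, hmS⟩ := exists_into S h.SM hT hTM
  have h1 : cj m (sSup AA) ≤ (S : Subgroup G) := (cj_mono m (h.J0_le_B.trans hBT)).trans hmS
  have h2 := h.norm_ZJ hm (h.cj_J0 hm h1)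
  have h3 : cj m T ≤ BB (S : Subgroup G) V J := by
    refine le_inf hmS ?_
    rw [← h2, ← cj_centralizer]
    exact cj_mono m fun t ht => mem_centralizer_iff.2 fun z hz => (hTc t ht z hz).symm
  refine (Subgroup.eq_of_le_of_card_ge hBT ?_).symm
  rw [← card_cj m T]
  exact Subgroup.card_le_of_le h3

/-! ### `W i`, `C i` -/

/-- the four-group of the pair `i` -/
noncomputable def W (i : Idx D AA) : Subgroup G where
  carrier := {v | v ∈ V ∧ ∀ z, ¬ Mem i z → z ≠ h.oo (xx i) → D.e v z = 0}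
  mul_mem' := by
    rintro a b ⟨ha, ha'⟩ ⟨hb, hb'⟩
    exact ⟨mul_mem ha hb, fun z h1 h2 => by rw [D.mul a ha b hb, Pi.add_apply, ha' z h1 h2, hb' z h1 h2, add_zero]⟩
  one_mem' := ⟨one_mem _, fun z _ _ => by rw [D.map_one]; rfl⟩
  inv_mem' := by
    rintro a ⟨ha, ha'⟩
    exact ⟨inv_mem ha, fun z h1 h2 => by rw [D.map_inv ha]; exact ha' z h1 h2⟩

omit h [Finite G] in
/-- the complement -/
def C (D : Pts M V Pt I) {AA : Set (Subgroup G)} (i : Idx D AA) : Subgroup G where
  carrier := {v | v ∈ V ∧ D.e v (xx i) = 0 ∧ D.e v (yy i) = 0}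
  mul_mem' := by
    rintro a b ⟨ha, ha', ha''⟩ ⟨hb, hb', hb''⟩
    exact ⟨mul_mem ha hb, by rw [D.mul a ha b hb, Pi.add_apply, ha', hb', add_zero],
      by rw [D.mul a ha b hb, Pi.add_apply, ha'', hb'', add_zero]⟩
  one_mem' := ⟨one_mem _, by rw [D.map_one]; rfl, by rw [D.map_one]; rfl⟩
  inv_mem' := by
    rintro a ⟨ha, ha', ha''⟩
    exact ⟨inv_mem ha, by rw [D.map_inv ha]; exact ha', by rw [D.map_inv ha]; exact ha''⟩

theorem mem_W {i : Idx D AA} {v : G} : v ∈ h.W i ↔ v ∈ V ∧ ∀ z, ¬ Mem i z → z ≠ h.oo (xx i) → D.e v z = 0 := Iff.rfl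

omit h [Finite G] in
theorem mem_C {i : Idx D AA} {v : G} : v ∈ C D i ↔ v ∈ V ∧ D.e v (xx i) = 0 ∧ D.e v (yy i) = 0 := Iff.rfl

theorem W_le_V (i : Idx D AA) : h.W i ≤ V := fun _ hv => hv.1

omit h [Finite G] in
theorem C_le_V (i : Idx D AA) : C D i ≤ V := fun _ hv => hv.1

/-- the three coordinates of an element of `W i` -/
theorem W_sum {i : Idx D AA} {v : G} (hv : v ∈ h.W i) : D.e v (yy i) = D.e v (xx i) + D.e v (h.oo (xx i)) := by
  have h1 := D.even v hv.1 (xx i)
  have hsub : ({xx i, yy i, h.oo (xx i)} : Finset Pt) ⊆ Finset.univ.filter fun y => D.blk y = D.blk (xx i) := by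
    intro z hz
    simp only [Finset.mem_insert, Finset.mem_singleton] at hz
    rw [Finset.mem_filter]
    refine ⟨Finset.mem_univ _, ?_⟩
    rcases hz with rfl | rfl | rfl
    · rfl
    · exact (blk_i i).symm
    · exact h.oo_blk _
  rw [← Finset.sum_subset hsub] at h1
  · have n1 : xx i ≠ h.oo (xx i) := fun e => h.oo_not_mem (xx i) i (e ▸ Or.inl rfl)
    have n2 : yy i ≠ h.oo (xx i) := fun e => h.oo_not_mem (xx i) i (e ▸ Or.inr rfl)
    rw [Finset.sum_insert (by simp [ne_i i, n1]), Finset.sum_insert (by simp [n2]), Finset.sum_singleton] at h1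
    have h2 : D.e v (yy i) = D.e v (xx i) + (D.e v (xx i) + (D.e v (yy i) + D.e v (h.oo (xx i)))) + D.e v (h.oo (xx i)) := by
      have a1 := add_self (D.e v (xx i))
      have a2 := add_self (D.e v (h.oo (xx i)))
      linear_combination -a1 - a2
    rw [h1, add_zero] at h2
    exact h2
  · intro z _ hz
    simp only [Finset.mem_insert, Finset.mem_singleton, not_or] at hz
    exact hv.2 z (fun hm => by rcases hm with e | e; exacts [hz.1 e, hz.2.1 e]) hz.2.2

/-- elements of `W i` with given coordinates -/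
theorem exists_W (i : Idx D AA) (s t : ZMod 2) : ∃ v ∈ h.W i, D.e v (xx i) = s ∧ D.e v (h.oo (xx i)) = t := by
  set f : Pt → ZMod 2 := fun z => if z = xx i then s else if z = h.oo (xx i) then t else if z = yy i then s + t else 0
    with hf
  have n1 : xx i ≠ h.oo (xx i) := fun e => h.oo_not_mem (xx i) i (e ▸ Or.inl rfl)
  have n2 : yy i ≠ h.oo (xx i) := fun e => h.oo_not_mem (xx i) i (e ▸ Or.inr rfl)
  have fx : f (xx i) = s := if_pos rfl
  have fo : f (h.oo (xx i)) = t := by rw [hf]; simp only [if_neg n1.symm, if_pos]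
  have fy : f (yy i) = s + t := by
    rw [hf]; simp only [if_neg (ne_i i).symm, if_neg n2, if_pos]
  have f0 : ∀ z, ¬ Mem i z → z ≠ h.oo (xx i) → f z = 0 := by
    intro z h1 h2
    rw [hf]
    simp only
    rw [if_neg (fun e => h1 (Or.inl e)), if_neg h2, if_neg (fun e => h1 (Or.inr e))]
  obtain ⟨v, hv, e⟩ := D.surj f fun x => by
    by_cases hx : D.blk x = D.blk (xx i)
    · rw [hx]
      have hsub : ({xx i, yy i, h.oo (xx i)} : Finset Pt) ⊆ Finset.univ.filter fun y => D.blk y = D.blk (xx i) := by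
        intro z hz
        simp only [Finset.mem_insert, Finset.mem_singleton] at hz
        rw [Finset.mem_filter]
        refine ⟨Finset.mem_univ _, ?_⟩
        rcases hz with rfl | rfl | rfl
        · rfl
        · exact (blk_i i).symm
        · exact h.oo_blk _
      rw [← Finset.sum_subset hsub]
      · rw [Finset.sum_insert (by simp [ne_i i, n1]), Finset.sum_insert (by simp [n2]), Finset.sum_singleton, fx, fy, fo]
        have a1 := add_self s
        have a2 := add_self t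
        linear_combination a1 + a2
      · intro z _ hz
        simp only [Finset.mem_insert, Finset.mem_singleton, not_or] at hz
        exact f0 z (fun hm => by rcases hm with e | e; exacts [hz.1 e, hz.2.1 e]) hz.2.2
    · refine Finset.sum_eq_zero fun z hz => f0 z (fun hm => ?_) (fun e => ?_)
      · rw [Finset.mem_filter] at hz
        exact hx (hz.2.symm.trans hm.blk)
      · rw [Finset.mem_filter] at hz
        exact hx (hz.2.symm.trans (by rw [e, h.oo_blk]))
  exact ⟨v, ⟨hv, fun z h1 h2 => by rw [e]; exact f0 z h1 h2⟩, by rw [e, fx], by rw [e, fo]⟩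

/-- an element of `W i` is determined by two coordinates -/
theorem W_ext {i : Idx D AA} {v u : G} (hv : v ∈ h.W i) (hu : u ∈ h.W i) (h1 : D.e v (xx i) = D.e u (xx i))
    (h2 : D.e v (h.oo (xx i)) = D.e u (h.oo (xx i))) : v = u := by
  refine D.ext hv.1 hu.1 ?_
  funext z
  by_cases hz : Mem i z
  · rcases hz with rfl | rfl
    · exact h1
    · rw [h.W_sum hv, h.W_sum hu, h1, h2]
  · by_cases hz2 : z = h.oo (xx i)
    · rw [hz2]; exact h2
    · rw [hv.2 z hz hz2, hu.2 z hz hz2]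

/-- every `v ∈ V` is a product -/
theorem split_WC (i : Idx D AA) {v : G} (hv : v ∈ V) : ∃ w ∈ h.W i, ∃ c ∈ C D i, v = w * c := by
  obtain ⟨w, hw, e1, e2⟩ := h.exists_W i (D.e v (xx i)) (D.e v (xx i) + D.e v (yy i))
  have e3 := h.W_sum hw
  refine ⟨w, hw, w⁻¹ * v, ⟨mul_mem (inv_mem hw.1) hv, ?_, ?_⟩, by group⟩
  · rw [D.mul _ (inv_mem hw.1) _ hv, D.map_inv hw.1, Pi.add_apply, e1, add_self]
  · rw [D.mul _ (inv_mem hw.1) _ hv, D.map_inv hw.1, Pi.add_apply, e3, e1, e2]
    have a1 := add_self (D.e v (xx i))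
    have a2 := add_self (D.e v (yy i))
    linear_combination a1 + a2

theorem dir (i : Idx D AA) : h.W i ⊓ C D i = ⊥ := by
  rw [eq_bot_iff]
  rintro v ⟨hv, -, h1, h2⟩
  rw [mem_bot]
  have h3 := h.W_sum hv
  rw [h1, h2, zero_add] at h3
  refine h.W_ext hv (one_mem _) ?_ ?_
  · rw [h1, D.map_one]; rfl
  · rw [← h3, D.map_one]; rfl

/-- an element vanishing on all pairs is trivial -/
theorem eq_one_of {v : G} (hv : v ∈ V) (h0 : ∀ i : Idx D AA, D.e v (xx i) = 0 ∧ D.e v (yy i) = 0) : v = 1 := by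
  refine D.inj v hv ?_
  have h1 : ∀ z, ¬ (z = h.oo z) → D.e v z = 0 := by
    intro z hz
    rcases h.cover z with e | ⟨i, hi⟩
    · exact absurd e hz
    · rcases hi with e | e
      · rw [e]; exact (h0 i).1
      · rw [e]; exact (h0 i).2
  funext z
  by_cases hz : z = h.oo z
  · have h2 := D.even v hv z
    rw [Finset.sum_eq_single z] at h2
    · exact h2
    · intro y hy hyz
      rw [Finset.mem_filter] at hy
      exact h1 y fun e => hyz (e.trans ((h.oo_congr hy.2).trans hz.symm))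
    · intro hz2
      exact absurd (by rw [Finset.mem_filter]; exact ⟨Finset.mem_univ _, rfl⟩) hz2
  · exact h1 z hz

theorem W_le_C {i j : Idx D AA} (hij : i ≠ j) : h.W j ≤ C D i := by
  rintro v ⟨hv, h1⟩
  refine ⟨hv, h1 _ (fun hm => hij (h.mem_inj (Or.inl rfl) hm)) (fun e => ?_),
    h1 _ (fun hm => hij (h.mem_inj (Or.inr rfl) hm)) (fun e => ?_)⟩
  · exact h.oo_not_mem (xx j) i (Or.inl e.symm)
  · exact h.oo_not_mem (xx j) i (Or.inr e.symm)

end Lv

end Cfsg.Agent.Omega.NOThreeL.RRed.BFr
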