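import Cfsg.Agent.Mrg.Omega.OM.SwapV.Q.Neg
import Cfsg.Agent.Mrg.Omega.NOThreeL.RTree


/-!
# NO-3L, box R: `⟨Y i⟩` is nonlocal, stage `-1`, `q ≥ 4` (#24050 (0') for `q ≥ 4`)

`B = bau S`, `Z_J = zj S`, the frame `NegQ S V Q L W Z C A q` over `B`, at least two blocks; `Y i = C_G(Z j : j ≠ i)`.

* `nl_of` : in box R no 2-group `≠ 1` is normalised by `⟨Y i⟩`, from THEOREM SWQ (`hm`: a subgroup `X ≥ L i, C_G(Z_J),
  N_G(B)` with `BMV` contains every `H ≥ B` of characteristic 2).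
-/

set_option autoImplicit false
set_option linter.unusedSectionVars false

namespace Cfsg.Agent.Omega.NOThreeL.RRed.BFr.NlNegQ

open Subgroup Cfsg Cfsg.Agent.Omega.MinPar Cfsg.Agent.Omega.Frame Cfsg.Agent.ZN.ChoiceBase Cfsg.Agent.ZN.ChoiceSit
open Cfsg.Agent.ZN (jj zj bau zc zl o2)
open Cfsg.Agent.Omega.OM.LevD (LB)
open Cfsg.Agent.Omega.OM.Var (YY EE YY_le_EE)
open Cfsg.Agent.Omega.OM.SwapV.Q
open Cfsg.Agent.Omega.NOThreeL.RTree (RB)

universe u

variable {G : Type u} [Group G] [Finite G] {ι : Type} [Finite ι] {S : Sylow 2 G} {Q V : Subgroup G}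
  {L W Z C A : ι → Subgroup G} {q : ℕ}

/-- **No 2-group `≠ 1` is normalised by `⟨Y i⟩`.** -/
theorem nl_of [Nonempty ι] (B : RB S) (h : NegQ S V Q L W Z C A q) (hq : 4 ≤ q) (h2 : ∀ i : ι, ∃ j, j ≠ i)
    (hm : ∀ X H : Subgroup G, BMV (jj (S : Subgroup G)) (bau (S : Subgroup G)) X → (∀ i, L i ≤ X) →
      centralizer (zj (S : Subgroup G) : Set G) ≤ X → normalizer (bau (S : Subgroup G) : Set G) ≤ X →
      bau (S : Subgroup G) ≤ H → H ⊓ centralizer (o2 H : Set G) ≤ o2 H → H ≤ X)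
    {R : Subgroup G} (hR : IsPGroup 2 R) (hE : EE Z ≤ normalizer (R : Set G)) : R = ⊥ := by
  by_contra hR1
  obtain ⟨h1, -, h3⟩ := (h.bfr hq h2).loc hR hR1 hE
  have hX1 : EE Z ≤ normalizer (o2 (EE Z) : Set G) := le_sup_left.trans h3
  have hX2 : normalizer (zj (S : Subgroup G) : Set G) ≤ normalizer (o2 (EE Z) : Set G) := le_sup_right.trans h3
  have hX3 : normalizer (bau (S : Subgroup G) : Set G) ≤ normalizer (o2 (EE Z) : Set G) :=
    (LB.neg S).norm_B_le.trans hX2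
  have hall : ∀ H : Subgroup G, bau (S : Subgroup G) ≤ H → H ⊓ centralizer (o2 H : Set G) ≤ o2 H →
      H ≤ normalizer (o2 (EE Z) : Set G) := fun H hB hc =>
    hm _ H (h.bmv hq h2 hX1 hX3) (fun i => (((h.bfr hq h2).L_le i).trans (YY_le_EE Z i)).trans hX1)
      ((centralizer_le_normalizer _).trans hX2) hX3 hB hc
  have hc := B.ctx.char2
  refine h1 (FrameNOFF.eq_bot_of_norm B.ctx S B.full (isPGroup_o2 _) (fun P hP => ?_) ?_)
  · exact hall P ((bau_le _).trans hP.le) (hP.isLoc.char2 S hc)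
  · have h2 := isLoc_centralizer_zc S (B.ctx.sylow_ne_bot S)
    exact hall _ ((bau_le _).trans h2.le) (h2.char2 S hc)

end Cfsg.Agent.Omega.NOThreeL.RRed.BFr.NlNegQ
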