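import Cfsg.Agent.Mrg.Omega.OM.SwapV.Q.Main
import Cfsg.Agent.Mrg.Omega.NOThreeL.RRed.BFr.VSup
import Cfsg.Agent.Mrg.Omega.NOThreeL.RRed.BFr.NlNegQ


/-!
# NO-3L, box R, `q ≥ 4`: `⟨C_G(Z_J ∩ C i) : i⟩` is nonlocal at every stage

* `main2` : (Om) for the ground frame (helper461, 970, 995);
* `nl_lev` : stage `n ≥ 0` (frame `LnQ`);
* `NegQ.nonLoc'`, `nl_neg` : stage `-1` (frame `NegQ`), at least two blocks.
-/

set_option autoImplicit false
set_option linter.unusedSectionVars false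

namespace Cfsg.Agent.Omega.NOThreeL.RRed.BFr.NlEndQ

open Subgroup Cfsg Cfsg.Agent.Omega.MinPar Cfsg.Agent.Omega.Frame Cfsg.Agent.ZN.ChoiceBase Cfsg.Agent.ZN.ChoiceSit
open Cfsg.Agent.ZN (jj zj bau zc zl o2)
open Cfsg.Agent.MinSimple.MinParabolic (IsMinPar)
open Cfsg.Agent.Omega.OM.LevD (LB)
open Cfsg.Agent.Omega.OM.Var (YY EE YY_le_EE)
open Cfsg.Agent.Omega.OM.SwapV.Q
open Cfsg.Agent.Omega.OM.SwapL (ZL BL lb wc)
open Cfsg.Agent.Omega.NOThreeL.RTree (RB)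

universe u

/-- **(Om), `q ≥ 4`.** -/
theorem main2 : Main2.{u} := by
  intro G _ _ ι _ S K B V ZJ L W Z C A q hne h hq h4 X H hBM hL hD hN hB hc
  exact h.le_of_char2 hne hq h4 hBM hL hD hN hB hc

variable {G : Type u} [Group G] [Finite G] {ι : Type} [Finite ι] {S : Sylow 2 G} {Q V : Subgroup G}
  {L W Z C A : ι → Subgroup G} {q : ℕ}

/-- In box R nothing `≠ 1` is normalised by all subgroups of characteristic 2 over `B ≤ S`. -/
theorem bot_of (B : RB S) {B₀ O : Subgroup G} (hB : B₀ ≤ (S : Subgroup G)) (hO : IsPGroup 2 O)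
    (hall : ∀ H : Subgroup G, B₀ ≤ H → H ⊓ centralizer (o2 H : Set G) ≤ o2 H → H ≤ normalizer (O : Set G)) : O = ⊥ := by
  have hc := B.ctx.char2
  refine FrameNOFF.eq_bot_of_norm B.ctx S B.full hO (fun P hP => ?_) ?_
  · exact hall P (hB.trans hP.le) (hP.isLoc.char2 S hc)
  · have h2 := isLoc_centralizer_zc S (B.ctx.sylow_ne_bot S)
    exact hall _ (hB.trans h2.le) (h2.char2 S hc)

/-- **Stage `n ≥ 0`**: no 2-group `≠ 1` is normalised by all `C_G(Z_J ∩ C i)`. -/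
theorem nl_lev [Nonempty ι] (B : RB S) {n : ℕ} (h : LnQ S V Q n L W Z C A q) (hq : 4 ≤ q) {R : Subgroup G}
    (hR : IsPGroup 2 R)
    (hY : ∀ i, centralizer ((ZL (S : Subgroup G) n ⊓ C i : Subgroup G) : Set G) ≤ normalizer (R : Set G)) : R = ⊥ :=
  NlLev.nlQ B main2 hq h hR hY

/-- `⟨C_G(Z_J ∩ C i)⟩ = ⟨Y i⟩` -/
theorem EE_le (h : NegQ S V Q L W Z C A q) {X : Subgroup G}
    (hY : ∀ i, centralizer ((zj (S : Subgroup G) ⊓ C i : Subgroup G) : Set G) ≤ X) : EE Z ≤ X := by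
  refine iSup_le fun i => ?_
  have h1 := (var_of_fr h.fr).inf_C i
  have h2 := hY i
  rw [h1] at h2
  exact h2

/-- **Stage `-1`**: no 2-group `≠ 1` is normalised by all `C_G(Z_J ∩ C i)`. -/
theorem nl_neg [Nonempty ι] (B : RB S) (h : NegQ S V Q L W Z C A q) (hq : 4 ≤ q) (h2 : ∀ i : ι, ∃ j, j ≠ i)
    {R : Subgroup G} (hR : IsPGroup 2 R)
    (hY : ∀ i, centralizer ((zj (S : Subgroup G) ⊓ C i : Subgroup G) : Set G) ≤ normalizer (R : Set G)) : R = ⊥ :=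
  NlNegQ.nl_of B h hq h2 (fun X H hBM hL hD hN hB hc =>
    h.gr.le_of_char2 ‹_› (fun _ => hq) (fun _ _ e => e) hBM hL hD hN hB hc) hR (EE_le h hY)

end Cfsg.Agent.Omega.NOThreeL.RRed.BFr.NlEndQ
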