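import Cfsg.Agent.Mrg.Omega.OM.SwapV.Q.K0Le
import Cfsg.Agent.Mrg.Omega.NOThreeL.RRed.BFr.VSup


/-!
# NO-3L, box R: `C_G(Z_J)` and the `L i` are together nonlocal, `q ≥ 8`, stage `n ≥ 0`

* `nlQ8` : no 2-group `≠ 1` is normalised by `C_G(Z_J)` and all `L i` (`q ≥ 8`).
-/

set_option autoImplicit false
set_option linter.unusedSectionVars false

namespace Cfsg.Agent.Omega.NOThreeL.RRed.BFr.NlLev

open Subgroup Cfsg
open Cfsg.Agent.Omega.OM.SwapL (ZL)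
open Cfsg.Agent.Omega.OM.SwapV.Q
open Cfsg.Agent.Omega.NOThreeL.RTree (RB)

universe u

variable {G : Type u} [Group G] [Finite G] {ι : Type} [Finite ι] {S : Sylow 2 G} {V Q : Subgroup G} {n : ℕ}
  {L W Z C A : ι → Subgroup G} {q : ℕ}

/-- **No 2-group `≠ 1` is normalised by `C_G(Z_J)` and all `L i`** (`q ≥ 8`). -/
theorem nlQ8 [Nonempty ι] (B : RB S) (hq : 8 ≤ q) (h : LnQ S V Q n L W Z C A q) {R : Subgroup G}
    (hR : IsPGroup 2 R) (hD : centralizer (ZL (S : Subgroup G) n : Set G) ≤ normalizer (R : Set G))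
    (hL : ∀ i, L i ≤ normalizer (R : Set G)) : R = ⊥ :=
  nlK B (by omega) h hR ((h.K0_le8 hq).trans (sup_le hD (iSup_le hL)))

end Cfsg.Agent.Omega.NOThreeL.RRed.BFr.NlLev
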