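import Cfsg.Agent.Mrg.Omega.OM.SwapV.Lv.Frame
import Cfsg.Agent.Mrg.Omega.OM.SwapL.Main


/-!
# The dichotomy for the light pairs over `LnV`, `q = 2`

* `tr_of` : if every `L m` normalises every `W l`, `l ≠ m`, then `Line.Tr W Z C` (natural `S₃`-blocks);
* `cross_of` : otherwise, for every `l` (transitivity of `N_G(B)` on the `W l`) some `g ∈ N(Q)` centralises all `Z p`,
  `p ≠ m`, for one `m ≠ l`, and moves `W l`;
* `dich`.
-/

set_option autoImplicit false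
set_option linter.unusedSectionVars false

namespace Cfsg.Agent.Omega.NOThreeL.RRed.BFr.TrCross

open Subgroup Cfsg Cfsg.Agent.ZN.ChoiceBase Cfsg.Agent.ZN.ChoiceSit
open Cfsg.Agent.ZN (zc zl o2)
open Cfsg.Agent.Omega.NO3S.Level (lev)
open Cfsg.Agent.Omega.OM.SwapL (ZL BL)
open Cfsg.Agent.Omega.OM.SwapV.Lv (LnV)
open Cfsg.Agent.Omega.OM.Lev.Uni (FrL)
open Cfsg.Agent.Omega.OM.Lev.Low.Line (Tr)
open Cfsg.Agent.Omega.SQ1.Bau (mem_sup_comm elem_comm elem_sq)

universe u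

variable {G : Type u} [Group G] [Finite G] {ι : Type} [Finite ι]

section tr

variable {B Q V X ZJ : Subgroup G} {L W Z C A : ι → Subgroup G}

/-- `C i = ∏_{j ≠ i} W j` -/
theorem C_le (h : FrL B Q V X ZJ L W Z C A 2) (i : ι) : C i ≤ ⨆ (j : ι) (_ : j ≠ i), W j := by
  classical
  intro c hc
  have hcV : c ∈ W i ⊔ ⨆ (j : ι) (_ : j ≠ i), W j := by
    have h1 : V ≤ W i ⊔ ⨆ (j : ι) (_ : j ≠ i), W j := by
      refine h.V_eq.le.trans (iSup_le fun j => ?_)
      by_cases hj : j = i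
      · rw [hj]; exact le_sup_left
      · exact (le_iSup₂_of_le (f := fun (j : ι) (_ : j ≠ i) => W j) j hj le_rfl).trans le_sup_right
    exact h1 (h.CV i hc)
  have hle : (⨆ (j : ι) (_ : j ≠ i), W j) ≤ C i := iSup₂_le fun j hj => h.WjC i j (Ne.symm hj)
  obtain ⟨w, hw, c', hc', e⟩ := mem_sup_comm (fun a ha b hb => h.Vc (h.WV i ha) (h.CV i (hle hb))) hcV
  have h1 : w = 1 := by
    have h2 : w ∈ W i ⊓ C i := by
      refine mem_inf.2 ⟨hw, ?_⟩
      have : w = c * c'⁻¹ := by rw [e]; group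
      rw [this]
      exact mul_mem hc (inv_mem (hle hc'))
    rwa [h.dir i, mem_bot] at h2
  rw [e, h1, one_mul]
  exact hc'

/-- **natural `S₃`-blocks** -/
theorem tr_of (h : FrL B Q V X ZJ L W Z C A 2) (ha : ∀ l m, l ≠ m → L m ≤ normalizer (W l : Set G)) : Tr W Z C := by
  intro i x hx hx1
  have hb := h.blk i
  have hsq : ∀ v ∈ W i, v ^ 2 = 1 := fun v hv => elem_sq hb.el v hv
  have hW4 : Nat.card (W i) = 4 := by rw [hb.card, h.cardZ i]
  -- the conjugates of `A i` centralise `C i`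
  have hcent : ∀ g ∈ L i, ∀ a ∈ A i, ∀ c ∈ C i, g * a * g⁻¹ * c = c * (g * a * g⁻¹) := by
    intro g hg a ha' c hc
    have h1 : (⨆ (j : ι) (_ : j ≠ i), W j) ≤ centralizer ({g * a * g⁻¹} : Set G) := by
      refine iSup₂_le fun j hj w hw => ?_
      rw [mem_centralizer_singleton_iff]
      have h2 : g⁻¹ * w * g ∈ W j := by
        have := (mem_normalizer_iff.1 (inv_mem (ha j i hj hg)) w).1 hw
        simpa using this
      have h3 := h.AC i a ha' _ (h.WjC i j (Ne.symm hj) h2)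
      have h4 := congrArg (fun t => g * t * g⁻¹) h3
      simpa [mul_assoc] using h4.symm
    exact (mem_centralizer_singleton_iff.1 (h1 (C_le h i hc))).symm
  -- the generator of `Z i`
  have hZ2 := h.cardZ i
  obtain ⟨z, hz, hz1⟩ : ∃ z ∈ Z i, z ≠ 1 := by
    have h1 : 1 < Nat.card (Z i) := by rw [hZ2]; norm_num
    have : Nontrivial (Z i) := Finite.one_lt_card_iff_nontrivial.1 h1
    obtain ⟨z, hz⟩ := exists_ne (1 : Z i)
    exact ⟨z, z.2, fun h => hz (Subtype.ext h)⟩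
  have hzu : ∀ y ∈ Z i, y ≠ 1 → y = z := fun y hy hy1 => OM.UniPlus.eq_of_card_two hZ2 hy hz hy1 hz1
  have hzW : z ∈ W i := hb.ZV hz
  -- `k` moves `z`
  obtain ⟨k, hk, hkz⟩ : ∃ k ∈ L i, k * z * k⁻¹ ∉ Z i := by
    by_contra hcon
    push Not at hcon
    obtain ⟨k, hk, hs⟩ := hb.sup
    have h2 : ⁅W i, B⁆ ≤ Z i := hb.comm_le le_rfl
    have h3 : cj k (Z i) ≤ Z i := by
      rintro _ ⟨y, hy, rfl⟩
      by_cases hy1 : y = 1
      · rw [hy1]
        show k * 1 * k⁻¹ ∈ Z i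
        simp
      · rw [hzu y hy hy1]
        exact hcon k hk
    have h4 : W i ≤ Z i := hs.trans (sup_le h2 ((cj_mono k h2).trans h3))
    have h5 := Subgroup.card_le_of_le h4
    rw [hW4, hZ2] at h5
    omega
  set y := k * z * k⁻¹ with hy
  have hyW : y ∈ W i := hb.nV k hk z hzW
  have hy1 : y ≠ 1 := fun e => hz1 (conj_eq_one_iff.1 e)
  have hyz : z ≠ y := fun e => hkz (e ▸ hz)
  -- `a` moves `y`
  have h1 := h.Ane i
  push Not at h1
  obtain ⟨a, haA, w, hw, hne⟩ := h1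
  have haB : a ∈ B := h.AB i haA
  have haz : a * z = z * a := hb.cZ a haB z hz
  have key : ∀ v ∈ W i, v ∉ Z i → a * v * a⁻¹ = v * z := by
    intro v hv hvZ
    have h2 : a * v ≠ v * a := fun e => hne (hb.free a haB v hv hvZ e w hw)
    have h3 := hb.com a haB v hv
    have h4 : a * v * a⁻¹ * v⁻¹ ≠ 1 := fun e => h2 (by
      have h5 := mul_inv_eq_one.1 e
      exact mul_inv_eq_iff_eq_mul.1 h5)
    have h5 := hzu _ h3 h4
    have h6 : a * v * a⁻¹ = z * v := mul_inv_eq_iff_eq_mul.1 h5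
    rw [h6]
    exact hb.comm hzW hv
  have hay := key y hyW hkz
  -- `b = a^k` moves `z`
  have hkz' : k⁻¹ * z * k ∉ Z i := by
    intro hmem
    have h2 : k⁻¹ * z * k ≠ 1 := fun e => hz1 (by
      have := congrArg (fun t => k * t * k⁻¹) e
      simpa [mul_assoc] using this)
    have h3 := hzu _ hmem h2
    apply hyz
    rw [hy]
    calc z = k * (k⁻¹ * z * k) * k⁻¹ := by group
      _ = k * z * k⁻¹ := by rw [h3]
  have hkzW : k⁻¹ * z * k ∈ W i := by
    have := hb.nV k⁻¹ (inv_mem hk) z hzW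
    simpa using this
  have hbz : (k * a * k⁻¹) * z * (k * a * k⁻¹)⁻¹ = z * y := by
    have h2 := key _ hkzW hkz'
    calc (k * a * k⁻¹) * z * (k * a * k⁻¹)⁻¹ = k * (a * (k⁻¹ * z * k) * a⁻¹) * k⁻¹ := by group
      _ = k * (k⁻¹ * z * k * z) * k⁻¹ := by rw [h2]
      _ = z * (k * z * k⁻¹) := by group
      _ = z * y := by rw [hy]
  rcases NO3S.eq_of_card_four hW4 hsq hzW hz1 hyW hy1 hyz hx hx1 with e | e | e
  · exact ⟨1, fun c _ => by simp, z, hz, by rw [e]; group⟩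
  · refine ⟨a * (k * a * k⁻¹), fun c hc => ?_, z, hz, ?_⟩
    · have c1 : Commute a c := h.AC i a haA c hc
      have c2 : Commute (k * a * k⁻¹) c := hcent k hk a haA c hc
      exact (c1.mul_left c2).eq
    · have hzz : z * z = 1 := by rw [← pow_two]; exact hsq z hzW
      calc a * (k * a * k⁻¹) * z * (a * (k * a * k⁻¹))⁻¹
          = a * ((k * a * k⁻¹) * z * (k * a * k⁻¹)⁻¹) * a⁻¹ := by group
        _ = a * (z * y) * a⁻¹ := by rw [hbz]
        _ = (a * z * a⁻¹) * (a * y * a⁻¹) := by group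
        _ = z * (y * z) := by rw [hay, haz, mul_inv_cancel_right]
        _ = z * (z * y) := by rw [hb.comm hyW hzW]
        _ = y := by rw [← mul_assoc, hzz, one_mul]
        _ = x := e.symm
  · exact ⟨k * a * k⁻¹, fun c hc => hcent k hk a haA c hc, z, hz, by rw [hbz, e]⟩

end tr

section cross

variable {S : Sylow 2 G} {V Q : Subgroup G} {n : ℕ} {L W Z C A : ι → Subgroup G}

theorem W_ne (h : LnV S V Q n L W Z C A) {i j : ι} (e : W i = W j) : i = j := by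
  by_contra hne
  have h2 := h.fr.WjC i j hne
  rw [← e] at h2
  have h3 : W i ≤ W i ⊓ C i := le_inf le_rfl h2
  rw [h.fr.dir i] at h3
  obtain ⟨z, hz, hz1⟩ := OM.SwapV.Lv.Z_ne h i
  exact hz1 (mem_bot.1 (h3 (OM.SwapV.Lv.Z_W h i hz)))

theorem Q_eq (h : LnV S V Q n L W Z C A) : Q = BL (S : Subgroup G) n ⊓ centralizer (V : Set G) := by
  ext x
  rw [mem_inf, mem_centralizer_iff]
  constructor
  · intro hx
    exact ⟨h.fr.QB hx, fun v hv => ((h.fr.mem_Q x (h.fr.QB hx)).1 hx v hv).symm⟩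
  · rintro ⟨hx, hx'⟩
    exact (h.fr.mem_Q x hx).2 fun v hv => (hx' v hv).symm

/-- **letters in common** -/
theorem cross_of (h : LnV S V Q n L W Z C A)
    (hM : ∀ i j, ∃ g ∈ normalizer (BL (S : Subgroup G) n : Set G), cj g (W i) = W j)
    (ha : ¬ ∀ l m, l ≠ m → L m ≤ normalizer (W l : Set G)) :
    ∀ l, ∃ m, m ≠ l ∧ ∃ g ∈ normalizer (Q : Set G), (∀ p, p ≠ m → ∀ z ∈ Z p, g * z = z * g) ∧ cj g (W l) ≠ W l := by
  push Not at ha
  obtain ⟨l₀, m₀, hlm, hn⟩ := ha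
  obtain ⟨g, hg, hgn⟩ := SetLike.not_le_iff_exists.1 hn
  have hgQ : g ∈ normalizer (Q : Set G) := mem_normalizer_of_cj_le (by
    rintro _ ⟨x, hx, rfl⟩
    exact h.fr.LQ m₀ g hg x hx)
  have hgZ : ∀ p, p ≠ m₀ → ∀ z ∈ Z p, g * z = z * g := fun p hp z hz =>
    h.fr.LC m₀ g hg z (h.fr.Z_le p hz) (OM.SwapV.Lv.Z_C h (Ne.symm hp) hz)
  have hgW : cj g (W l₀) ≠ W l₀ := fun e => hgn (mem_normalizer_iff_cj.2 e)
  intro l
  obtain ⟨x, hxB, hxl⟩ := hM l₀ l
  obtain ⟨m, hmZ, hmW, -⟩ := OM.SwapV.Lv.perm h hxB m₀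
  have hml : m ≠ l := by
    rintro rfl
    have h1 : W m₀ = W l₀ := by
      have h2 := congrArg (cj x⁻¹) (hmW.trans hxl.symm)
      rwa [cj_inv_cj, cj_inv_cj] at h2
    exact hlm (W_ne h h1).symm
  have hxQ : x ∈ normalizer (Q : Set G) := by
    rw [mem_normalizer_iff_cj, Q_eq h, cj_inf, cj_centralizer, cj_eq_of_mem_normalizer hxB, (h.norm hxB).1]
  refine ⟨m, hml, x * g * x⁻¹, mul_mem (mul_mem hxQ hgQ) (inv_mem hxQ), fun p hp z hz => ?_, fun e => hgW ?_⟩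
  · obtain ⟨p', hp', -, -⟩ := OM.SwapV.Lv.perm h (inv_mem hxB) p
    have hpp : p' ≠ m₀ := by
      rintro rfl
      have h1 : cj x (Z p') = Z p := by rw [← hp', cj_cj, mul_inv_cancel, cj_one]
      exact hp (OM.SwapV.Lv.Z_inj h (h1.symm.trans hmZ))
    have hz' : x⁻¹ * z * x ∈ Z p' := by
      rw [← hp']
      refine ⟨z, hz, ?_⟩
      show x⁻¹ * z * x⁻¹⁻¹ = x⁻¹ * z * x
      rw [inv_inv]
    have h1 := congrArg (fun t => x * t * x⁻¹) (hgZ p' hpp _ hz')
    simpa [mul_assoc] using h1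
  · have h1 : cj (x * g * x⁻¹) (W l) = cj x (cj g (W l₀)) := by
      rw [← hxl, cj_cj, cj_cj]
      congr 1
      group
    rw [h1, ← hxl] at e
    have h2 := congrArg (cj x⁻¹) e
    rwa [cj_inv_cj, cj_inv_cj] at h2

/-- **The dichotomy.** -/
theorem dich (h : LnV S V Q n L W Z C A)
    (hM : ∀ i j, ∃ g ∈ normalizer (BL (S : Subgroup G) n : Set G), cj g (W i) = W j) :
    Tr W Z C ∨ ∀ l, ∃ m, m ≠ l ∧ ∃ g ∈ normalizer (Q : Set G), (∀ p, p ≠ m → ∀ z ∈ Z p, g * z = z * g) ∧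
      cj g (W l) ≠ W l := by
  by_cases ha : ∀ l m, l ≠ m → L m ≤ normalizer (W l : Set G)
  · exact Or.inl (tr_of h.fr ha)
  · exact Or.inr (cross_of h hM ha)

end cross

end Cfsg.Agent.Omega.NOThreeL.RRed.BFr.TrCross
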